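import Groth.Agent.TFOneLib.Basic
import Groth.Agent.EulerChar.Curve
import Groth.Agent.EulerChar.Torsion
import Groth.Agent.EulerChar.Components
import Groth.Agent.TopDimLib.Basic

/-!
# Torsion-free quotients on subcurves: comparison maps
-/

set_option autoImplicit false
set_option linter.style.haveILetI false
universe u

open CategoryTheory CategoryTheory.Limits AlgebraicGeometry TopologicalSpace
open Groth.Agent.PullStalk.Sky Groth.Agent.PullStalk.Exact

namespace Groth.Agent.TFOneLib

variable {X : Scheme.{u}} [IsReduced X] [AlgebraicGeometry.IsNoetherian X]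

theorem quot_injective {M G : X.Modules} (hM : TFOne.IsTF1 X M) {Y : Set X} {π : M ⟶ G}
    (hπ : TFOne.IsQuotOn X M Y G π) {η : X} (hη : η ∈ genericPoints X) (hY : η ∈ Y) :
    Function.Injective (stalkLin π η) := by
  haveI : Epi π := hπ.1
  exact injective_of_rkOne hM.2.2 π hη (hπ.2.2.2.symm ▸ hY)

theorem quot_subsingleton {M G : X.Modules} {Y : Set X} {π : M ⟶ G} (hπ : TFOne.IsQuotOn X M Y G π)
    {η : X} (hY : η ∉ Y) : Subsingleton (G.presheaf.stalk η) :=
  not_not.1 (hπ.2.2.2.symm ▸ hY : η ∉ CohB1.support G)

/-- The quotient on a larger subset maps to the quotient on a smaller one. -/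
theorem exists_desc {M G H : X.Modules} (hM : TFOne.IsTF1 X M) {Y W : Set X} {π : M ⟶ G} {ρ : M ⟶ H}
    (hπ : TFOne.IsQuotOn X M Y G π) (hρ : TFOne.IsQuotOn X M W H ρ) (hWY : W ⊆ Y) :
    ∃ f : G ⟶ H, π ≫ f = ρ := by
  haveI : Epi π := hπ.1
  have hz : kernel.ι π ≫ ρ = 0 := by
    refine eq_zero_of_generic _ (CohDev.isCoh_kernel' π hM.1 hπ.2.1) hρ.2.1.1
      (fun _ hy => mem_genericPoints_of_assoc hρ.2.2.1 hy) fun η hη t => ?_
    by_cases hW : η ∈ W
    · have h0 : stalkLin (kernel.ι π) η t = 0 := quot_injective hM hπ hη (hWY hW) (by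
        rw [← CohDev.stalkLin_comp_apply, kernel.condition, CohDev.stalkLin_zero_apply, map_zero])
      rw [CohDev.stalkLin_comp_apply, h0, map_zero]
    · haveI := quot_subsingleton hρ hW
      exact @Subsingleton.elim (H.presheaf.stalk η) _ _ _
  have hS : (ShortComplex.mk (kernel.ι π) π (kernel.condition π)).ShortExact :=
    { exact := ShortComplex.exact_of_f_is_kernel _ (kernelIsKernel π) }
  exact ⟨hS.gIsCokernel.desc (CokernelCofork.ofπ _ hz),
    hS.gIsCokernel.fac (CokernelCofork.ofπ _ hz) WalkingParallelPair.one⟩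

theorem biprod_stalk_ext {A B : X.Modules} {x : X} {s t : (A ⊞ B).presheaf.stalk x}
    (h1 : stalkLin (biprod.fst : A ⊞ B ⟶ A) x s = stalkLin (biprod.fst : A ⊞ B ⟶ A) x t)
    (h2 : stalkLin (biprod.snd : A ⊞ B ⟶ B) x s = stalkLin (biprod.snd : A ⊞ B ⟶ B) x t) : s = t := by
  rw [← CohDev.stalkLin_id_apply x s, ← CohDev.stalkLin_id_apply x t, ← biprod.total,
    CohDev.stalkLin_add_apply, CohDev.stalkLin_add_apply, CohDev.stalkLin_comp_apply,
    CohDev.stalkLin_comp_apply, CohDev.stalkLin_comp_apply, CohDev.stalkLin_comp_apply, h1, h2]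

/-- A coherent module on a curve vanishing at the generic points has zero-dimensional support. -/
theorem dim_support_le_zero (hpure : ∀ C ∈ irreducibleComponents (X : Type u), topologicalKrullDim C ≤ 1)
    {F : X.Modules} (hF : Coh.IsCoh F) (h : ∀ η ∈ genericPoints X, η ∉ CohB1.support F) :
    topologicalKrullDim (CohB1.support F) ≤ 0 := by
  have hdim : topologicalKrullDim X ≤ 1 := by
    rw [TopDimLib.topDim_eq_iSup_of_locallyFinite (fun C : irreducibleComponents (X : Type u) => C.1)
      (fun C => isClosed_of_mem_irreducibleComponents _ C.2)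
      (by haveI : Finite ↥(irreducibleComponents (X : Type u)) :=
            NoetherianSpace.finite_irreducibleComponents.to_subtype
          exact locallyFinite_of_finite _)
      (by rw [Set.iUnion_coe_set, ← Set.sUnion_eq_biUnion, sUnion_irreducibleComponents])]
    exact iSup_le fun C => hpure _ C.2
  have hcl : ∀ z ∈ CohB1.support F, IsClosed ({z} : Set X) := fun z hz => by
    obtain ⟨η, hη⟩ := QuasiSober.sober (isIrreducible_irreducibleComponent (x := z))
      isClosed_irreducibleComponent
    have hgen : η ∈ genericPoints X := by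
      show closure ({η} : Set X) ∈ irreducibleComponents (X : Type u)
      rw [hη.def]; exact irreducibleComponent_mem_irreducibleComponents z
    exact EulerChar.isClosed_singleton_of_specializes hdim (hη.specializes mem_irreducibleComponent)
      fun e => h η hgen (e ▸ hz)
  refine EulerChar.topDim_le_zero_of_finite ?_ hcl
  have hc := CohDev.isClosed_support hF
  haveI : T1Space ↥(CohB1.support F) := ⟨fun z => by
    convert (hcl z.1 z.2).preimage continuous_subtype_val
    ext w
    exact Subtype.ext_iff⟩
  haveI : QuasiSober ↥(CohB1.support F) := hc.isClosedEmbedding_subtypeVal.quasiSober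
  haveI : NoetherianSpace ↥(CohB1.support F) := inferInstance
  refine Set.finite_coe_iff.1 (Set.finite_univ_iff.1 ?_)
  rw [← sUnion_irreducibleComponents]
  refine NoetherianSpace.finite_irreducibleComponents.sUnion fun T hT => ?_
  obtain ⟨a, ha⟩ := QuasiSober.sober hT.1 (isClosed_of_mem_irreducibleComponents T hT)
  rw [← ha.def, closure_singleton]
  exact Set.finite_singleton a

end Groth.Agent.TFOneLib
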