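import Groth.Agent.CohDev.K0
import Groth.Agent.UnibrBir.Scheme
import Groth.Agent.IdealSh.Regular
import Groth.Agent.FormalFun.Powers
import Groth.Prelude.Def_TFOne
import Mathlib.RingTheory.Ideal.AssociatedPrime.Basic

/-!
# Torsion-free sheaves on reduced Noetherian schemes are detected at the generic points
-/

set_option autoImplicit false
set_option linter.style.haveILetI false
universe u

open CategoryTheory CategoryTheory.Limits AlgebraicGeometry TopologicalSpace
open Groth.Agent.PullStalk.Sky Groth.Agent.PullStalk.Exact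

namespace Groth.Agent.TFOneLib

variable {X : Scheme.{u}}

theorem isField_stalk [IsReduced X] {x : X} (hx : x ∈ genericPoints X) : IsField (X.presheaf.stalk x) := by
  rw [IsLocalRing.isField_iff_maximalIdeal_eq, eq_bot_iff]
  intro a ha
  exact (Submodule.mem_bot _).mpr
    (IdealSh.Regular.isNilpotent_of_maximal x (UnibrBir.mem_genericPoints_iff_forall.1 hx) a ha).eq_zero

/-- A point whose maximal ideal consists of zero divisors is a generic point. -/
theorem mem_genericPoints [IsReduced X] [IsLocallyNoetherian X] {x : X}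
    (h : ∀ r ∈ IsLocalRing.maximalIdeal (X.presheaf.stalk x), ¬ IsRegular r) : x ∈ genericPoints X := by
  have hfield : IsField (X.presheaf.stalk x) := by
    let R := X.presheaf.stalk x
    have hsub : (IsLocalRing.maximalIdeal R : Set R) ⊆ ⋃ p ∈ associatedPrimes R R, (p : Set R) := by
      intro r hr
      rw [biUnion_associatedPrimes_eq_compl_regular]
      intro hreg
      exact h r hr (isRegular_iff.2 ⟨hreg, fun a b hab => hreg (by simpa [mul_comm] using hab)⟩)
    obtain ⟨p, hp, hle⟩ := (Ideal.subset_union_prime_finite (associatedPrimes.finite R R) ⊥ ⊥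
      (fun p hp _ _ => hp.isPrime)).1 hsub
    obtain ⟨hpr, a, ha⟩ := Submodule.isAssociatedPrime_iff.1 hp
    have hm : ∀ r ∈ IsLocalRing.maximalIdeal R, r * a = 0 := fun r hr => by
      have := hle hr
      rw [ha, Submodule.mem_colon_singleton, Submodule.mem_bot] at this
      exact this
    have ha0 : a ≠ 0 := fun h0 => hpr.ne_top (by
      rw [ha, eq_top_iff]; intro r _; rw [Submodule.mem_colon_singleton, h0, smul_zero]; exact zero_mem _)
    have hau : IsUnit a := by
      by_contra hn
      exact ha0 (IsNilpotent.eq_zero ⟨2, by rw [pow_two]; exact hm a hn⟩)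
    rw [IsLocalRing.isField_iff_maximalIdeal_eq, eq_bot_iff]
    exact fun r hr => (Submodule.mem_bot _).mpr (hau.mul_left_eq_zero.mp (hm r hr))
  refine UnibrBir.mem_genericPoints_iff_forall.2 fun y hy => ?_
  letI := hfield.toField
  obtain ⟨p, hp⟩ := (X.range_fromSpecStalk (x := x)).ge hy
  haveI : Subsingleton ↥(Spec (X.presheaf.stalk x)) :=
    inferInstanceAs (Subsingleton (PrimeSpectrum (X.presheaf.stalk x)))
  rw [← hp, Subsingleton.elim p (IsLocalRing.closedPoint _), Scheme.fromSpecStalk_closedPoint]

/-- The associated points of a torsion-free module are generic points. -/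
theorem mem_genericPoints_of_assoc [IsReduced X] [IsLocallyNoetherian X] {G : X.Modules}
    (hG : TorSh.IsTorsionFree G) {y : X} (h : CohDev.Assoc G y) : y ∈ genericPoints X := by
  obtain ⟨t, ht, hr⟩ := h
  refine mem_genericPoints fun r hrm hreg => ht ?_
  haveI := hG y
  exact (Module.IsTorsionFree.isSMulRegular (M := G.presheaf.stalk y) hreg) (by
    simp only [hr r hrm, smul_zero])

theorem stalkLin_sub {A B : X.Modules} (f g : A ⟶ B) (x : X) (t : A.presheaf.stalk x) :
    stalkLin (f - g) x t = stalkLin f x t - stalkLin g x t := by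
  obtain ⟨U, hx, m, rfl⟩ := exists_germM_eq A x t
  rw [stalkLin_germ, stalkLin_germ, stalkLin_germ]
  exact map_sub (B.presheaf.germ U x hx).hom _ _

/-- A map into a module with associated points generic is zero when it is zero at the generic points. -/
theorem eq_zero_of_generic [AlgebraicGeometry.IsNoetherian X] {A B : X.Modules} (f : A ⟶ B)
    (hA : Coh.IsCoh A) (hB : Coh.IsQCoh B) (hass : ∀ y, CohDev.Assoc B y → y ∈ genericPoints X)
    (h : ∀ η ∈ genericPoints X, ∀ t, stalkLin f η t = 0) : f = 0 := by
  have hI : Coh.IsCoh (Abelian.image f) := CohDev.isCoh_image f hA hB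
  have hz : IsZero (Abelian.image f) := by
    by_contra hn
    obtain ⟨y, hy⟩ := CohDev.exists_assoc hI hn
    obtain ⟨t, ht, -⟩ := id hy
    obtain ⟨z, rfl⟩ := stalk_surjective (Abelian.factorThruImage f) y t
    refine ht (CohDev.stalk_injective (Abelian.image.ι f) y ?_)
    rw [← CohDev.stalkLin_comp_apply, Abelian.image.fac, map_zero]
    exact h y (hass y (CohDev.assoc_of_mono (Abelian.image.ι f) hy)) z
  rw [← Abelian.image.fac f, hz.eq_of_src (Abelian.image.ι f) 0, comp_zero]

theorem eq_of_generic [IsReduced X] [AlgebraicGeometry.IsNoetherian X] {A B : X.Modules} (f g : A ⟶ B)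
    (hA : Coh.IsCoh A) (hB : Coh.IsCoh B) (hT : TorSh.IsTorsionFree B)
    (h : ∀ η ∈ genericPoints X, ∀ t, stalkLin f η t = stalkLin g η t) : f = g :=
  sub_eq_zero.1 <| eq_zero_of_generic (f - g) hA hB.1
    (fun _ hy => mem_genericPoints_of_assoc hT hy) fun η hη t => by rw [stalkLin_sub, h η hη t, sub_self]

/-- At a generic point a surjection out of a rank-one module onto a non-zero module is injective. -/
theorem injective_of_rkOne [IsReduced X] {F G : X.Modules} (hF : TFOne.IsRkOne X F) (π : F ⟶ G) [Epi π]
    {η : X} (hη : η ∈ genericPoints X) (hG : η ∈ CohB1.support G) :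
    Function.Injective (stalkLin π η) := by
  obtain ⟨e⟩ := hF η hη
  letI := (isField_stalk hη).toField
  refine (injective_iff_map_eq_zero _).2 fun t ht => by_contra fun htne => hG ?_
  refine subsingleton_of_forall_eq 0 fun y => ?_
  obtain ⟨s, rfl⟩ := stalk_surjective π η y
  have hs : s = (e s / e t) • t := e.injective (by
    rw [map_smul, smul_eq_mul, div_mul_cancel₀ _ (fun h0 => htne (e.injective (h0.trans (map_zero e).symm)))])
  rw [hs, map_smul, ht, smul_zero]

theorem stalk_support_generic [IsReduced X] {F : X.Modules} (hF : TFOne.IsRkOne X F) {η : X}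
    (hη : η ∈ genericPoints X) : η ∈ CohB1.support F := fun h => by
  obtain ⟨e⟩ := hF η hη
  haveI := (isField_stalk hη).nontrivial
  exact not_subsingleton (X.presheaf.stalk η) (@Equiv.subsingleton _ _ e.symm.toEquiv h)

variable {k : Type u} [Field k] [X.Over (Spec (CommRingCat.of k))]

/-- the scalars in a local ring -/
noncomputable def scal (x : X) : k →+* X.presheaf.stalk x :=
  ((X.presheaf.germ (⊤ : X.Opens) x trivial).hom).comp
    (Coh.toGlobal (X ↘ Spec (CommRingCat.of k)) : k →+* Γ(X, ⊤))

theorem stalkLin_smulMod (M : X.Modules) (c : k) (x : X) (t : M.presheaf.stalk x) :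
    stalkLin (Formal.smulMod k M c) x t = scal x c • t := by
  obtain ⟨U, hx, m, rfl⟩ := exists_germM_eq M x t
  rw [stalkLin_germ]
  refine (congrArg (germM M U x hx) (show (Formal.smulMod k M c).app U m =
    (show Γ(X, U) from Coh.resTop X (Opposite.op U) (Coh.toGlobal (X ↘ Spec (CommRingCat.of k)) c)) • m from rfl)).trans ?_
  rw [germM_smul]
  exact congrArg (fun r : X.presheaf.stalk x => r • germM M U x hx m)
    (X.presheaf.germ_res_apply (homOfLE (le_top (a := U))) x hx _)

end Groth.Agent.TFOneLib
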