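import Groth.Prelude.Def_Coh
import Mathlib.AlgebraicGeometry.Geometrically.Integral
import Mathlib.AlgebraicGeometry.FunctionField
import Mathlib.AlgebraicGeometry.Pullbacks
import Mathlib.FieldTheory.IntermediateField.Adjoin.Basic
import Mathlib.RingTheory.Ideal.GoingUp

/-!
# The base field is algebraically closed in the function field of a geometrically integral scheme
-/

set_option autoImplicit false
set_option linter.style.haveILetI false
universe u

open CategoryTheory CategoryTheory.Limits AlgebraicGeometry TopologicalSpace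
open scoped TensorProduct IntermediateField

namespace Groth.Agent.TFOneLib

/-- If `A ⊗ L` is a domain for all finite extensions `L` of `k`, then `k` is algebraically closed in
the fraction field of `A`. -/
theorem mem_range_of_isIntegral {k A K : Type u} [Field k] [CommRing A] [IsDomain A] [Algebra k A]
    [Field K] [Algebra A K] [Algebra k K] [IsScalarTower k A K] [IsFractionRing A K]
    (hA : ∀ (L : Type u) [Field L] [Algebra k L] [FiniteDimensional k L], IsDomain (A ⊗[k] L))
    {b : K} (hb : IsIntegral k b) : b ∈ Set.range (algebraMap k K) := by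
  classical
  by_contra hne
  haveI : FiniteDimensional k k⟮b⟯ := IntermediateField.adjoin.finiteDimensional hb
  haveI := hA k⟮b⟯
  let μ : A ⊗[k] k⟮b⟯ →ₐ[k] K :=
    Algebra.TensorProduct.lift (IsScalarTower.toAlgHom k A K) k⟮b⟯.val fun _ _ => mul_comm _ _
  have hμt : ∀ (a : A) (x : k⟮b⟯), μ (a ⊗ₜ[k] x) = algebraMap A K a * (x : K) :=
    fun a x => Algebra.TensorProduct.lift_tmul _ _ _ a x
  have hμ : RingHom.ker μ.toRingHom = ⊥ := by
    haveI : Algebra.IsIntegral A (A ⊗[k] k⟮b⟯) := Algebra.IsIntegral.of_finite A _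
    refine Ideal.eq_bot_of_comap_eq_bot (R := A) (S := A ⊗[k] k⟮b⟯) (eq_bot_iff.2 fun a ha => ?_)
    have h1 : μ (a ⊗ₜ[k] 1) = 0 := ha
    rw [hμt, OneMemClass.coe_one, mul_one] at h1
    exact (Submodule.mem_bot _).2 ((IsFractionRing.injective A K) (h1.trans (map_zero _).symm))
  obtain ⟨s, t, ht, hst⟩ := IsFractionRing.div_surjective A b
  let β : k⟮b⟯ := IntermediateField.AdjoinSimple.gen k b
  have hz : s ⊗ₜ[k] (1 : k⟮b⟯) - t ⊗ₜ[k] β = 0 := by
    suffices h : μ (s ⊗ₜ[k] (1 : k⟮b⟯) - t ⊗ₜ[k] β) = 0 from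
      (Submodule.mem_bot _).1 (hμ.le (RingHom.mem_ker.2 h))
    rw [map_sub, hμt, hμt, OneMemClass.coe_one, mul_one]
    show algebraMap A K s - algebraMap A K t * b = 0
    rw [← hst, mul_div_cancel₀ _ (IsFractionRing.to_map_ne_zero_of_mem_nonZeroDivisors ht), sub_self]
  obtain ⟨f, hf1, hf⟩ := Submodule.exists_dual_map_eq_bot_of_notMem (p := k ∙ (1 : k⟮b⟯)) (x := β)
    (fun h => by
      obtain ⟨c, hc⟩ := Submodule.mem_span_singleton.1 h
      refine hne ⟨c, ?_⟩
      have h2 := congrArg (fun x : k⟮b⟯ => (x : K)) hc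
      simpa [Algebra.smul_def, β] using h2) inferInstance
  have hf0 : f 1 = 0 := by
    have : f 1 ∈ (k ∙ (1 : k⟮b⟯)).map f := ⟨1, Submodule.mem_span_singleton_self 1, rfl⟩
    rw [hf, Submodule.mem_bot] at this
    exact this
  have h3 := congrArg (fun z => TensorProduct.rid k A (LinearMap.lTensor A f z)) hz
  simp only [map_sub, LinearMap.lTensor_tmul, TensorProduct.rid_tmul, hf0, zero_smul, map_zero, zero_sub,
    neg_eq_zero, smul_eq_zero, hf1, false_or] at h3
  exact nonZeroDivisors.ne_zero ht h3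

variable {Y : Scheme.{u}} [IsIntegral Y] {k : Type u} [Field k] (q : Y ⟶ Spec (CommRingCat.of k))

/-- Constants in the function field. -/
noncomputable def ffConst : k →+* Y.functionField :=
  ((Y.presheaf.germ (⊤ : Y.Opens) (genericPoint Y) trivial).hom).comp (Coh.toGlobal q : k →+* Γ(Y, ⊤))

/-- The base field is algebraically closed in the function field. -/
theorem mem_range_ffConst [GeometricallyIntegral q] {b : Y.functionField}
    (hb : (ffConst q).IsIntegralElem b) : b ∈ Set.range (ffConst q) := by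
  obtain ⟨_, ⟨U, hU, rfl⟩, hηU, -⟩ := Y.isBasis_affineOpens.exists_subset_of_mem_open
    (Set.mem_univ (genericPoint Y)) isOpen_univ
  haveI : Nonempty U := ⟨⟨_, hηU⟩⟩
  letI : Algebra k Γ(Y, U) :=
    ((Y.presheaf.map (homOfLE (le_top : U ≤ ⊤)).op).hom.comp (Coh.toGlobal q : k →+* Γ(Y, ⊤))).toAlgebra
  letI : Algebra k Y.functionField := (ffConst q).toAlgebra
  haveI : IsScalarTower k Γ(Y, U) Y.functionField := IsScalarTower.of_algebraMap_eq fun c =>
    (Y.presheaf.germ_res_apply (homOfLE (le_top : U ≤ ⊤)) (genericPoint Y) hηU _).symm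
  haveI := functionField_isFractionRing_of_isAffineOpen Y U hU
  refine mem_range_of_isIntegral (A := Γ(Y, U)) (fun L _ _ _ => ?_) hb
  have hq : hU.fromSpec ≫ q = Spec.map (CommRingCat.ofHom (algebraMap k Γ(Y, U))) := by
    have h2 := IsAffineOpen.SpecMap_appLE_fromSpec q (isAffineOpen_top _) hU (i := le_top)
    rw [IsAffineOpen.fromSpec_top, Scheme.isoSpec_Spec_inv, ← Spec.map_comp] at h2
    rw [← h2]
    rfl
  let y := Spec.map (CommRingCat.ofHom (algebraMap k L))
  haveI : IsIntegral (pullback q y) :=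
    GeometricallyIntegral.geometrically_isIntegral y _ _ (IsPullback.of_hasPullback q y)
  let j : pullback (hU.fromSpec ≫ q) y ⟶ pullback q y :=
    (pullbackRightPullbackFstIso q y hU.fromSpec).inv ≫ pullback.snd _ _
  let e : pullback (hU.fromSpec ≫ q) y ≅ Spec (.of (Γ(Y, U) ⊗[k] L)) :=
    pullback.congrHom hq rfl ≪≫ pullbackSpecIso k Γ(Y, U) L
  haveI : Nonempty ↥(Spec (CommRingCat.of (Γ(Y, U) ⊗[k] L))) :=
    inferInstanceAs (Nonempty (PrimeSpectrum (Γ(Y, U) ⊗[k] L)))
  haveI : Nonempty ↥(pullback (hU.fromSpec ≫ q) y) := ⟨e.inv (Classical.arbitrary _)⟩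
  haveI := hU.isOpenImmersion_fromSpec
  haveI : IsOpenImmersion j := IsOpenImmersion.comp _ _
  haveI : IsIntegral (pullback (hU.fromSpec ≫ q) y) := isIntegral_of_isOpenImmersion j
  haveI : IsIntegral (Spec (CommRingCat.of (Γ(Y, U) ⊗[k] L))) := isIntegral_of_isOpenImmersion e.inv
  exact (affine_isIntegral_iff (CommRingCat.of (Γ(Y, U) ⊗[k] L))).1 inferInstance

end Groth.Agent.TFOneLib
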