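import Groth.Agent.TFOneLib.Basic
import Groth.Agent.CycLib.DevClosedK0

/-!
# Direct images of torsion-free sheaves from unions of components
-/

set_option autoImplicit false
set_option linter.style.haveILetI false
universe u

open CategoryTheory CategoryTheory.Limits AlgebraicGeometry TopologicalSpace
open Groth.Agent.PullStalk.Sky Groth.Agent.PullStalk.Exact

namespace Groth.Agent.TFOneLib

variable {X Z : Scheme.{u}} (i : Z ⟶ X)

local notation "i⁎" => Scheme.Modules.pushforward i

/-- The comparison of stalks of a pushforward at an image point. -/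
noncomputable def pushGerm (P : Z.Modules) (z : Z) :
    ((i⁎).obj P).presheaf.stalk (i z) →+ P.presheaf.stalk z :=
  AddMonoidHom.mk' (fun t => (P.presheaf.stalkPushforward Ab i.base z) t) fun a b => map_add _ a b

theorem pushGerm_germ (P : Z.Modules) (z : Z) (W : X.Opens) (hW : i z ∈ W) (s : Γ(P, i ⁻¹ᵁ W)) :
    pushGerm i P z (germM ((i⁎).obj P) W (i z) hW s) = germM P (i ⁻¹ᵁ W) z hW s :=
  (ConcreteCategory.comp_apply _ _ _).symm.trans (ConcreteCategory.congr_hom
    (TopCat.Presheaf.stalkPushforward_germ Ab i.base P.presheaf W z hW) s)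

theorem pushGerm_smul (P : Z.Modules) (z : Z) (r : X.presheaf.stalk (i z))
    (t : ((i⁎).obj P).presheaf.stalk (i z)) :
    pushGerm i P z (r • t) = i.stalkMap z r • pushGerm i P z t := by
  obtain ⟨W, hW, s, rfl⟩ := exists_germM_eq _ _ t
  obtain ⟨W', hW', a, rfl⟩ := X.presheaf.exists_germ_eq (x := i z) r
  rw [← X.presheaf.germ_res_apply (homOfLE (inf_le_right : W ⊓ W' ≤ W')) _ ⟨hW, hW'⟩ a,
    show germM _ W (i z) hW s = germM _ (W ⊓ W') (i z) ⟨hW, hW'⟩
      (((i⁎).obj P).presheaf.map (homOfLE inf_le_left).op s) from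
      (((i⁎).obj P).presheaf.germ_res_apply
        (homOfLE (inf_le_left : W ⊓ W' ≤ W)) _ ⟨hW, hW'⟩ s).symm,
    ← germM_smul, Scheme.Hom.germ_stalkMap_apply]
  refine (pushGerm_germ i P z _ _ _).trans ?_
  refine Eq.trans ?_ (congrArg _ (pushGerm_germ i P z _ _ _).symm)
  exact germM_smul P (i ⁻¹ᵁ (W ⊓ W')) z ⟨hW, hW'⟩ _ _

variable [IsClosedImmersion i]

theorem pushGerm_bijective (P : Z.Modules) (z : Z) : Function.Bijective (pushGerm i P z) :=
  ClUnit.stalkPushforward_bijective i P i.isClosedEmbedding.isInducing z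

theorem not_mem_support_push (P : Z.Modules) {x : X} (hx : x ∉ Set.range i) :
    Subsingleton (((i⁎).obj P).presheaf.stalk x) :=
  ClUnit.subsingleton_stalk_pushforward i P x
    ⟨(Set.range i)ᶜ, i.isClosedEmbedding.isClosed_range.isOpen_compl⟩ hx
    (le_bot_iff.mp fun z hz => hz ⟨z, rfl⟩)

theorem assoc_push {P : Z.Modules} {y : X} (h : CohDev.Assoc ((i⁎).obj P) y) :
    ∃ z, i z = y ∧ CohDev.Assoc P z := by
  obtain ⟨t, ht, hr⟩ := h
  by_cases hy : y ∈ Set.range i
  · obtain ⟨z, rfl⟩ := hy
    refine ⟨z, rfl, pushGerm i P z t, fun h0 => ht ((pushGerm_bijective i P z).1 (h0.trans (map_zero _).symm)),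
      fun r hrm => ?_⟩
    obtain ⟨r, rfl⟩ := i.stalkMap_surjective z r
    rw [← pushGerm_smul, hr r ?_, map_zero]
    intro hu
    exact hrm (hu.map (i.stalkMap z).hom)
  · haveI := not_mem_support_push i P hy
    exact absurd (Subsingleton.elim t 0) ht

theorem mem_genericPoints_of_map {z : Z} (h : i z ∈ genericPoints X) : z ∈ genericPoints Z :=
  UnibrBir.mem_genericPoints_iff_forall.2 fun w hw => i.isClosedEmbedding.injective
    (UnibrBir.mem_genericPoints_iff_forall.1 h _ (hw.map i.continuous))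

theorem map_mem_genericPoints {Y : Set X} (hY : VecSt.IsSubcurve X Y) (hi : Set.range i = Y) {z : Z}
    (hz : z ∈ genericPoints Z) : i z ∈ genericPoints X := by
  obtain ⟨S, hS, -, rfl⟩ := hY
  obtain ⟨C, hC, hzC⟩ := (hi.le ⟨z, rfl⟩ : i z ∈ ⋃₀ S)
  obtain ⟨η, hη⟩ := QuasiSober.sober (hS hC).1 (isClosed_of_mem_irreducibleComponents C (hS hC))
  obtain ⟨w, hw⟩ : η ∈ Set.range i := hi.ge ⟨C, hC, hη.mem⟩
  have hwz : w ⤳ z := i.isClosedEmbedding.isInducing.specializes_iff.1 (hw ▸ hη.specializes hzC)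
  rw [← UnibrBir.mem_genericPoints_iff_forall.1 hz w hwz, hw]
  show closure ({η} : Set X) ∈ irreducibleComponents (X : Type u)
  rw [hη.def]; exact hS hC

/-- The associated points of the direct image of a torsion-free sheaf from a subcurve are generic. -/
theorem mem_genericPoints_of_assoc_push [IsReduced Z] [IsLocallyNoetherian Z] {Y : Set X}
    (hY : VecSt.IsSubcurve X Y) (hi : Set.range i = Y) {P : Z.Modules} (hP : TorSh.IsTorsionFree P) {y : X}
    (h : CohDev.Assoc ((i⁎).obj P) y) : y ∈ genericPoints X := by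
  obtain ⟨z, rfl, hz⟩ := assoc_push i h
  exact map_mem_genericPoints i hY hi (mem_genericPoints_of_assoc hP hz)

theorem mem_support_push_generic [IsReduced Z] {P : Z.Modules} (hP : TFOne.IsRkOne Z P) {η : X}
    (hη : η ∈ genericPoints X) (hr : η ∈ Set.range i) : η ∈ CohB1.support ((i⁎).obj P) := by
  obtain ⟨z, rfl⟩ := hr
  intro h
  exact stalk_support_generic hP (mem_genericPoints_of_map i hη)
    (@Equiv.subsingleton _ _ (Equiv.ofBijective _ (pushGerm_bijective i P z)).symm h)

variable {k : Type u} [Field k] [X.Over (Spec (CommRingCat.of k))]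

theorem smulMod_mul (M : X.Modules) (a b : k) :
    Formal.smulMod k M a ≫ Formal.smulMod k M b = Formal.smulMod k M (b * a) := by
  refine Scheme.Modules.hom_ext _ _ fun U => ?_
  ext x
  show (Formal.smulMod k M b).app U ((Formal.smulMod k M a).app U x) = (Formal.smulMod k M (b * a)).app U x
  rw [FormalFun.smulMod_app, FormalFun.smulMod_app, FormalFun.smulMod_app, smul_smul]
  simp only [map_mul]

end Groth.Agent.TFOneLib
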