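import Groth.Agent.TFOneLib.PushSub
import Groth.Agent.EulerChar.ComponentsTens
import Groth.Agent.EulerChar.Restrict

/-!
# Additivity of degrees on closed subsets of a reduced curve
-/

set_option autoImplicit false
set_option linter.style.haveILetI false
universe u

open CategoryTheory CategoryTheory.Limits AlgebraicGeometry TopologicalSpace
open Groth.Agent.PullStalk.Sky Groth.Agent.PullStalk.Exact

namespace Groth.Agent.TFOneLib

variable {k : Type u} [Field k] {X : Scheme.{u}} [X.Over (Spec (CommRingCat.of k))]
  [IsProper (X ↘ Spec (CommRingCat.of k))] [IsReduced X]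

/-- The degree of `E` on the reduced closed subscheme on `T`. -/
noncomputable def degOn (k : Type u) [Field k] [X.Over (Spec (CommRingCat.of k))] (T : Set X) (hT : IsClosed T)
    (E : X.Modules) (r : ℕ) : ℤ :=
  letI : (VecSt.subsch X T hT).Over (Spec (CommRingCat.of k)) :=
    ⟨VecSt.subschι X T hT ≫ (X ↘ Spec (CommRingCat.of k))⟩
  Curv2.deg k (VecSt.subsch X T hT) ((Scheme.Modules.pullback (VecSt.subschι X T hT)).obj E) r

omit [IsProper (X ↘ Spec (CommRingCat.of k))] [IsReduced X] in
theorem rBeta_eq (T : Set X) (hT : IsClosed T) (E : X.Modules) (r : ℕ) (G : X.Modules) :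
    TFOne.rBeta X k (X ↘ Spec (CommRingCat.of k)) T hT E r G =
      (r : ℤ) * Curv2.euler k X G + degOn k T hT E r := rfl

omit [IsProper (X ↘ Spec (CommRingCat.of k))] in
theorem length_quot_generic (T : Set X) (hT : IsClosed T) {η : X} (hη : η ∈ genericPoints X) [Decidable (η ∈ T)] :
    Module.length (X.presheaf.stalk η)
      ((ClSub.quotMod (Scheme.IdealSheafData.vanishingIdeal (X := X) ⟨T, hT⟩)).presheaf.stalk η) =
      if η ∈ T then 1 else 0 := by
  let i := VecSt.subschι X T hT
  let O := Coh.structureModule (VecSt.subsch X T hT)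
  have hr : Set.range i = T := by rw [Scheme.IdealSheafData.range_subschemeι]; rfl
  split_ifs with h
  · obtain ⟨z, rfl⟩ : η ∈ Set.range i := hr.ge h
    obtain ⟨e₀⟩ := EulerChar.stalk_ofRank
      (ProjTwist.isFinLocFreeOfRank_one (PicLoc.isInvertible_structureModule (VecSt.subsch X T hT))) z
    let e := (LinearEquiv.funUnique (Fin 1) ((VecSt.subsch X T hT).presheaf.stalk z)
      ((VecSt.subsch X T hT).presheaf.stalk z)).symm.trans e₀
    let w := (Equiv.ofBijective _ (pushGerm_bijective i O z)).symm (e 1)
    have hw : pushGerm i O z w = e 1 := (Equiv.ofBijective _ (pushGerm_bijective i O z)).apply_symm_apply _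
    have hmap : ∀ r, pushGerm i O z (r • w) = e (i.stalkMap z r) := fun r => by
      rw [pushGerm_smul, hw, ← map_smul, smul_eq_mul, mul_one]
    haveI : Nontrivial ((VecSt.subsch X T hT).presheaf.stalk z) := inferInstance
    letI := (isField_stalk hη).toField
    let μ : X.presheaf.stalk (i z) →ₗ[X.presheaf.stalk (i z)] ((Scheme.Modules.pushforward i).obj O).presheaf.stalk (i z) :=
      LinearMap.toSpanSingleton _ _ w
    have hμ : Function.Bijective μ := by
      refine ⟨fun a b hab => (i.stalkMap z).hom.injective (e.injective ?_), fun t => ?_⟩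
      · rw [← hmap, ← hmap]; exact congrArg _ hab
      · obtain ⟨r, hr⟩ := i.stalkMap_surjective z (e.symm (pushGerm i O z t))
        exact ⟨r, (pushGerm_bijective i O z).1 ((hmap r).trans (by rw [hr, e.apply_symm_apply]))⟩
    refine (LinearEquiv.ofBijective μ hμ).length_eq.symm.trans ?_
    exact Module.length_eq_one _ _
  · haveI := not_mem_support_push i O (fun h' => h (hr.le h'))
    exact Module.length_eq_zero

set_option maxHeartbeats 1000000 in
/-- Degrees on closed subsets add up like their sets of generic points. -/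
theorem degOn_add (hdim1 : ∀ Z ∈ irreducibleComponents (X : Type u), topologicalKrullDim Z = 1)
    {n : ℕ} {E : X.Modules} (hE : FlatMod.IsFinLocFreeOfRank n E)
    {A B C D : Set X} (hA : IsClosed A) (hB : IsClosed B) (hC : IsClosed C) (hD : IsClosed D)
    (h1 : ∀ η ∈ genericPoints X, (η ∈ A ∨ η ∈ B ↔ η ∈ C ∨ η ∈ D))
    (h2 : ∀ η ∈ genericPoints X, (η ∈ A ∧ η ∈ B ↔ η ∈ C ∧ η ∈ D)) :
    degOn k A hA E n + degOn k B hB E n = degOn k C hC E n + degOn k D hD E n := by
  classical
  haveI := EulerChar.isNoetherian k (X := X)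
  haveI := (NoetherianSpace.finite_irreducibleComponents (α := X)).to_subtype
  cases nonempty_fintype (irreducibleComponents (X : Type u))
  have hdeg : ∀ (T : Set X) (hT : IsClosed T),
      degOn k T hT E n = ∑ Z : irreducibleComponents (X : Type u),
        (if Z.2.1.genericPoint ∈ T then 1 else 0) *
          @Curv2.deg k _ (X.irreducibleComponentIdeal Z.1 Z.2).radical.subscheme
            ⟨(X.irreducibleComponentIdeal Z.1 Z.2).radical.subschemeι ≫ (X ↘ (Spec (CommRingCat.of k)))⟩
            ((Scheme.Modules.pullback (X.irreducibleComponentIdeal Z.1 Z.2).radical.subschemeι).obj E) n := by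
    intro T hT
    let Q := ClSub.quotMod (Scheme.IdealSheafData.vanishingIdeal (X := X) ⟨T, hT⟩)
    have hQ : Coh.IsCoh Q := EulerChar.isCoh_quotMod k _
    refine ((EulerChar.dev_quotMod k _ hE).symm.trans (EulerChar.dev_kcl k hE hQ)).trans ?_
    have h := EulerChar.ComponentsTens.euler_tens_eq_sum k hdim1 hE hQ
    have heq : CohB1.tensorMod E Q = CohDev.tens E Q := rfl
    rw [finsum_eq_sum_of_fintype, heq] at h
    refine (sub_eq_of_eq_add h).trans (Finset.sum_congr rfl fun Z _ => ?_)
    have hgen : Z.2.1.genericPoint ∈ genericPoints X := by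
      show closure ({Z.2.1.genericPoint} : Set X) ∈ irreducibleComponents (X : Type u)
      rw [(Z.2.1.isGenericPoint_genericPoint_closure).def, (isClosed_of_mem_irreducibleComponents Z.1 Z.2).closure_eq]
      exact Z.2
    rw [length_quot_generic T hT hgen]
    split_ifs <;> rfl
  rw [hdeg, hdeg, hdeg, hdeg, ← Finset.sum_add_distrib, ← Finset.sum_add_distrib]
  refine Finset.sum_congr rfl fun Z _ => ?_
  have hgen : Z.2.1.genericPoint ∈ genericPoints X := by
    show closure ({Z.2.1.genericPoint} : Set X) ∈ irreducibleComponents (X : Type u)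
    rw [(Z.2.1.isGenericPoint_genericPoint_closure).def, (isClosed_of_mem_irreducibleComponents Z.1 Z.2).closure_eq]
    exact Z.2
  have e1 := h1 _ hgen
  have e2 := h2 _ hgen
  rw [← add_mul, ← add_mul]
  congr 1
  by_cases ha : Z.2.1.genericPoint ∈ A <;> by_cases hb : Z.2.1.genericPoint ∈ B <;>
    by_cases hc : Z.2.1.genericPoint ∈ C <;> by_cases hd : Z.2.1.genericPoint ∈ D <;>
    simp only [ha, hb, hc, hd, if_true, if_false, or_true, true_or, or_self, and_true, true_and, and_self,
      false_iff, iff_false, false_and, and_false, not_true, or_false, false_or] at e1 e2 ⊢ <;> rfl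

end Groth.Agent.TFOneLib
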