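import Groth.Agent.TFOneLib.Quot
import Groth.Agent.EulerChar.Deg

/-!
# Euler characteristics of torsion-free quotients of an elementary modification
-/

set_option autoImplicit false
set_option linter.style.haveILetI false
universe u

open CategoryTheory CategoryTheory.Limits AlgebraicGeometry TopologicalSpace
open Groth.Agent.PullStalk.Sky Groth.Agent.PullStalk.Exact

namespace Groth.Agent.TFOneLib

variable {X : Scheme.{u}} [IsReduced X] [AlgebraicGeometry.IsNoetherian X]

/-- A map to a torsion-free module which vanishes at the generic points outside `W` factors through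
the quotient on `W`. -/
theorem exists_desc' {M G H : X.Modules} (hM : TFOne.IsTF1 X M) {W : Set X} {π : M ⟶ G} (ρ : M ⟶ H)
    (hπ : TFOne.IsQuotOn X M W G π) (hH : Coh.IsCoh H) (hHt : TorSh.IsTorsionFree H)
    (h : ∀ η ∈ genericPoints X, η ∉ W → ∀ t, stalkLin ρ η t = 0) : ∃ f : G ⟶ H, π ≫ f = ρ := by
  haveI : Epi π := hπ.1
  have hz : kernel.ι π ≫ ρ = 0 := by
    refine eq_zero_of_generic _ (CohDev.isCoh_kernel' π hM.1 hπ.2.1) hH.1
      (fun _ hy => mem_genericPoints_of_assoc hHt hy) fun η hη t => ?_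
    by_cases hW : η ∈ W
    · have h0 : stalkLin (kernel.ι π) η t = 0 := quot_injective hM hπ hη hW (by
        rw [← CohDev.stalkLin_comp_apply, kernel.condition, CohDev.stalkLin_zero_apply, map_zero])
      rw [CohDev.stalkLin_comp_apply, h0, map_zero]
    · rw [CohDev.stalkLin_comp_apply]
      exact h η hη hW _
  have hS : (ShortComplex.mk (kernel.ι π) π (kernel.condition π)).ShortExact :=
    { exact := ShortComplex.exact_of_f_is_kernel _ (kernelIsKernel π) }
  exact ⟨hS.gIsCokernel.desc (CokernelCofork.ofπ _ hz),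
    hS.gIsCokernel.fac (CokernelCofork.ofπ _ hz) WalkingParallelPair.one⟩

theorem mono_of_generic {A B : X.Modules} (f : A ⟶ B) (hA : Coh.IsCoh A) (hT : TorSh.IsTorsionFree A)
    (hB : Coh.IsCoh B) (h : ∀ η ∈ genericPoints X, Function.Injective (stalkLin f η)) : Mono f :=
  Preadditive.mono_of_kernel_zero (eq_zero_of_generic _ (CohDev.isCoh_kernel' f hA hB) hA.1
    (fun _ hy => mem_genericPoints_of_assoc hT hy) fun η hη t => h η hη (by
      rw [← CohDev.stalkLin_comp_apply, kernel.condition, CohDev.stalkLin_zero_apply, map_zero]))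

variable {M F GY : X.Modules} {Y : Set X} {πY : M ⟶ GY} {φ : GY ⟶ F} {ψ : F ⟶ M}

/-- The special fibre of an elementary modification is torsion-free of rank one. -/
theorem isTF1_modif (hM : TFOne.IsTF1 X M) (hGY : TFOne.IsQuotOn X M Y GY πY) (hF : Coh.IsCoh F)
    (hz : ∀ z : X, Function.Injective (stalkLin φ z) ∧ Function.Exact (stalkLin φ z) (stalkLin ψ z) ∧
      Function.Exact (stalkLin ψ z) (stalkLin πY z)) : TFOne.IsTF1 X F := by
  refine ⟨hF, fun z => ?_, fun η hη => ?_⟩
  · haveI := hM.2.1 z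
    haveI := hGY.2.2.1 z
    refine Module.IsTorsionFree.mk fun r hr v v' hvv => sub_eq_zero.1 ?_
    have h0 : r • (v - v') = 0 := by rw [smul_sub]; exact sub_eq_zero.2 hvv
    have h1 : stalkLin ψ z (v - v') = 0 :=
      Module.IsTorsionFree.isSMulRegular hr (by simp only [← map_smul, h0, map_zero, smul_zero])
    obtain ⟨g, hg⟩ := ((hz z).2.1 _).1 h1
    have h2 : g = 0 := Module.IsTorsionFree.isSMulRegular hr ((hz z).1 (by
      simp only [map_smul, hg, h0, smul_zero, map_zero]))
    rw [← hg, h2, map_zero]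
  · haveI : Epi πY := hGY.1
    obtain ⟨e⟩ := hM.2.2 η hη
    by_cases hY : η ∈ Y
    · have hsur : Function.Surjective (stalkLin φ η) := fun v => ((hz η).2.1 v).1
        (quot_injective hM hGY hη hY (((hz η).2.2 _).2 ⟨v, rfl⟩ |>.trans (map_zero _).symm))
      exact ⟨((LinearEquiv.ofBijective _ ⟨(hz η).1, hsur⟩).symm.trans
        (LinearEquiv.ofBijective _ ⟨quot_injective hM hGY hη hY, stalk_surjective πY η⟩).symm).trans e⟩
    · haveI := quot_subsingleton hGY hY
      have hbij : Function.Bijective (stalkLin ψ η) := by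
        refine ⟨(injective_iff_map_eq_zero _).2 fun v hv => ?_, fun m => ((hz η).2.2 m).1
          (@Subsingleton.elim (GY.presheaf.stalk η) _ _ _)⟩
        obtain ⟨g, rfl⟩ := ((hz η).2.1 v).1 hv
        rw [@Subsingleton.elim (GY.presheaf.stalk η) _ g 0, map_zero]
      exact ⟨(LinearEquiv.ofBijective _ hbij).trans e⟩

variable (k : Type u) [Field k] [X.Over (Spec (CommRingCat.of k))] [IsProper (X ↘ Spec (CommRingCat.of k))]

set_option maxHeartbeats 1000000 in
/-- The Euler characteristics of the quotients of an elementary modification. -/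
theorem euler_modif (hpure : ∀ C ∈ irreducibleComponents (X : Type u), topologicalKrullDim C ≤ 1)
    (hM : TFOne.IsTF1 X M) (hGY : TFOne.IsQuotOn X M Y GY πY) (hF : TFOne.IsTF1 X F)
    (hz : ∀ z : X, Function.Injective (stalkLin φ z) ∧ Function.Exact (stalkLin φ z) (stalkLin ψ z) ∧
      Function.Exact (stalkLin ψ z) (stalkLin πY z))
    {Z W U : Set X} {GZ GW GU : X.Modules} {πZ : F ⟶ GZ} {πW : M ⟶ GW} {πU : M ⟶ GU}
    (hGZ : TFOne.IsQuotOn X F Z GZ πZ) (hGW : TFOne.IsQuotOn X M W GW πW) (hGU : TFOne.IsQuotOn X M U GU πU)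
    (hW : ∀ η ∈ genericPoints X, (η ∈ W ↔ η ∈ Y ∧ η ∈ Z)) (hU : U = Y ∪ Z) :
    ∃ δ : ℤ, 0 ≤ δ ∧
      Curv2.euler k X GZ + Curv2.euler k X GY = Curv2.euler k X GW + Curv2.euler k X GU + δ ∧
      ((∀ η ∈ genericPoints X, η ∉ W) → δ = 0) ∧ ((∀ η ∈ genericPoints X, η ∈ U) → δ = 0) := by
  haveI : Epi πY := hGY.1
  haveI : Epi πZ := hGZ.1
  haveI : Epi πW := hGW.1
  haveI : Epi πU := hGU.1
  have hsubU : Y ⊆ U := hU ▸ Set.subset_union_left
  obtain ⟨gU, hgU⟩ := exists_desc hM hGU hGY hsubU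
  haveI : Epi gU := by
    haveI : Epi (πU ≫ gU) := hgU.symm ▸ hGY.1
    exact epi_of_epi πU gU
  obtain ⟨gW, hgW⟩ := exists_desc' hM πW hGY hGW.2.1 hGW.2.2.1 fun η hη hY t => by
    haveI := quot_subsingleton hGW (fun h => hY ((hW η hη).1 h).1)
    exact @Subsingleton.elim (GW.presheaf.stalk η) _ _ _
  have hφψ : ∀ z g, stalkLin ψ z (stalkLin φ z g) = 0 := fun z g => ((hz z).2.1 _).2 ⟨g, rfl⟩
  obtain ⟨h, hh⟩ := exists_desc' hM (πY ≫ φ ≫ πZ) hGW hGZ.2.1 hGZ.2.2.1 fun η hη hW' t => by
    by_cases hY : η ∈ Y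
    · haveI := quot_subsingleton hGZ (fun hZ => hW' ((hW η hη).2 ⟨hY, hZ⟩))
      exact @Subsingleton.elim (GZ.presheaf.stalk η) _ _ _
    · haveI := quot_subsingleton hGY hY
      rw [CohDev.stalkLin_comp_apply, @Subsingleton.elim (GY.presheaf.stalk η) _ (stalkLin πY η t) 0, map_zero]
  obtain ⟨l, hl⟩ := exists_desc' hF (ψ ≫ πU) hGZ hGU.2.1 hGU.2.2.1 fun η hη hZ t => by
    by_cases hY : η ∈ Y
    · rw [CohDev.stalkLin_comp_apply, quot_injective hM hGY hη hY
        (((hz η).2.2 _).2 ⟨t, rfl⟩ |>.trans (map_zero (stalkLin πY η)).symm), map_zero]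
    · haveI := quot_subsingleton hGU (fun h' => (hU ▸ h' : η ∈ Y ∪ Z).elim hY hZ)
      exact @Subsingleton.elim (GU.presheaf.stalk η) _ _ _
  have hhl : h ≫ l = 0 := by
    refine eq_zero_of_generic _ hGW.2.1 hGU.2.1.1 (fun _ hy => mem_genericPoints_of_assoc hGU.2.2.1 hy)
      fun η hη t => ?_
    obtain ⟨m, rfl⟩ := stalk_surjective πW η t
    rw [← CohDev.stalkLin_comp_apply, ← Category.assoc, hh, Category.assoc, Category.assoc, hl,
      CohDev.stalkLin_comp_apply, CohDev.stalkLin_comp_apply, CohDev.stalkLin_comp_apply, hφψ, map_zero]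
  have hlg : l ≫ gU = 0 := by
    refine eq_zero_of_generic _ hGZ.2.1 hGY.2.1.1 (fun _ hy => mem_genericPoints_of_assoc hGY.2.2.1 hy)
      fun η hη t => ?_
    obtain ⟨m, rfl⟩ := stalk_surjective πZ η t
    rw [← CohDev.stalkLin_comp_apply, ← Category.assoc, hl, Category.assoc, hgU, CohDev.stalkLin_comp_apply]
    exact ((hz η).2.2 _).2 ⟨m, rfl⟩
  have hπh : ∀ (η : X) (m : M.presheaf.stalk η),
      stalkLin πZ η (stalkLin φ η (stalkLin πY η m)) = stalkLin h η (stalkLin πW η m) := fun η m => by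
    rw [← CohDev.stalkLin_comp_apply, ← CohDev.stalkLin_comp_apply, ← CohDev.stalkLin_comp_apply, hh]
  have hlπ : ∀ (η : X) (f : F.presheaf.stalk η),
      stalkLin l η (stalkLin πZ η f) = stalkLin πU η (stalkLin ψ η f) := fun η f => by
    rw [← CohDev.stalkLin_comp_apply, ← CohDev.stalkLin_comp_apply, hl]
  haveI : Mono h := by
    refine mono_of_generic h hGW.2.1 hGW.2.2.1 hGZ.2.1 fun η hη => (injective_iff_map_eq_zero _).2 fun t ht => ?_
    obtain ⟨m, rfl⟩ := stalk_surjective πW η t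
    by_cases hηW : η ∈ W
    · rw [← hπh] at ht
      have h3 := quot_injective hF hGZ hη ((hW η hη).1 hηW).2 (ht.trans (map_zero _).symm)
      have h4 := quot_injective hM hGY hη ((hW η hη).1 hηW).1 (((hz η).1 (h3.trans (map_zero _).symm)).trans (map_zero _).symm)
      rw [h4, map_zero]
    · haveI := quot_subsingleton hGW hηW
      exact @Subsingleton.elim (GW.presheaf.stalk η) _ _ _
  let C := cokernel h
  have hC : Coh.IsCoh C := CohDev.isCoh_cokernel h hGW.2.1.1 hGZ.2.1
  let K := kernel gU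
  have hK : Coh.IsCoh K := CohDev.isCoh_kernel' gU hGU.2.1 hGY.2.1
  let γ : C ⟶ K := cokernel.desc h (kernel.lift gU l hlg) (by
    rw [← cancel_mono (kernel.ι gU), Category.assoc, kernel.lift_ι, hhl, zero_comp])
  have hγ : ∀ (η : X) (x : GZ.presheaf.stalk η),
      stalkLin (kernel.ι gU) η (stalkLin γ η (stalkLin (cokernel.π h) η x)) = stalkLin l η x := fun η x => by
    rw [← CohDev.stalkLin_comp_apply, ← CohDev.stalkLin_comp_apply]
    congr 2
    rw [cokernel.π_desc_assoc, kernel.lift_ι]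
  have hπC : ∀ (η : X) (x : GZ.presheaf.stalk η) (w : GW.presheaf.stalk η),
      stalkLin h η w = x → stalkLin (cokernel.π h) η x = 0 := fun η x w hw => by
    rw [← hw, ← CohDev.stalkLin_comp_apply, cokernel.condition, CohDev.stalkLin_zero_apply]
  have hγsurj : ∀ η : X, Function.Surjective (stalkLin γ η) := fun η y => by
    obtain ⟨m, hm⟩ := stalk_surjective πU η (stalkLin (kernel.ι gU) η y)
    have h0 : stalkLin πY η m = 0 := by
      rw [← hgU, CohDev.stalkLin_comp_apply, hm, ← CohDev.stalkLin_comp_apply, kernel.condition,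
        CohDev.stalkLin_zero_apply]
    obtain ⟨f, hf⟩ := ((hz η).2.2 m).1 h0
    refine ⟨stalkLin (cokernel.π h) η (stalkLin πZ η f), CohDev.stalk_injective (kernel.ι gU) η ?_⟩
    rw [hγ, hlπ, hf, hm]
  haveI : Epi γ := Preadditive.epi_of_isZero_cokernel γ (CohDev.isZero_of_support_eq_empty
    (Set.eq_empty_iff_forall_notMem.2 fun η => CohDev.not_mem_support_cokernel γ (hγsurj η)))
  have hinj : ∀ η : X, (∀ f : F.presheaf.stalk η, stalkLin πU η (stalkLin ψ η f) = 0 →
      stalkLin ψ η f = 0 ∨ stalkLin πZ η f = 0) → Function.Injective (stalkLin γ η) := fun η hη => by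
    refine (injective_iff_map_eq_zero _).2 fun c hc => ?_
    obtain ⟨x, rfl⟩ := stalk_surjective (cokernel.π h) η c
    obtain ⟨f, rfl⟩ := stalk_surjective πZ η x
    have h1 := (hγ η (stalkLin πZ η f)).symm
    rw [hc, map_zero, hlπ] at h1
    rcases hη f h1 with h2 | h2
    · obtain ⟨g, rfl⟩ := ((hz η).2.1 f).1 h2
      obtain ⟨m, rfl⟩ := stalk_surjective πY η g
      exact hπC η _ _ (hπh η m).symm
    · rw [h2, map_zero]
  have hinjgen : ∀ η ∈ genericPoints X, Function.Injective (stalkLin γ η) := fun η hη => hinj η fun f hf => by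
    by_cases hY : η ∈ Y
    · exact Or.inl (quot_injective hM hGY hη hY (((hz η).2.2 _).2 ⟨f, rfl⟩ |>.trans (map_zero _).symm))
    · by_cases hZ : η ∈ Z
      · exact Or.inl (quot_injective hM hGU hη (hU ▸ Or.inr hZ) (hf.trans (map_zero _).symm))
      · haveI := quot_subsingleton hGZ hZ
        exact Or.inr (@Subsingleton.elim (GZ.presheaf.stalk η) _ _ _)
  have hN : Coh.IsCoh (kernel γ) := CohDev.isCoh_kernel' γ hC hK
  have e1 := EulerChar.euler_add k (X := X) (S := ShortComplex.mk h (cokernel.π h) (cokernel.condition h))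
    { exact := ShortComplex.exact_of_g_is_cokernel _ (cokernelIsCokernel h) } hGW.2.1 hGZ.2.1 hC
  have e2 := EulerChar.euler_add k (X := X) (S := ShortComplex.mk (kernel.ι γ) γ (kernel.condition γ))
    { exact := ShortComplex.exact_of_f_is_kernel _ (kernelIsKernel γ) } hN hC hK
  have e3 := EulerChar.euler_add k (X := X) (S := ShortComplex.mk (kernel.ι gU) gU (kernel.condition gU))
    { exact := ShortComplex.exact_of_f_is_kernel _ (kernelIsKernel gU) } hK hGU.2.1 hGY.2.1
  dsimp only at e1 e2 e3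
  have hzero : (∀ η : X, Function.Injective (stalkLin γ η)) → Curv2.euler k X (kernel γ) = 0 := fun hall => by
    haveI : Mono γ := Preadditive.mono_of_isZero_kernel γ (CohDev.isZero_of_support_eq_empty
      (Set.eq_empty_iff_forall_notMem.2 fun η => CohDev.not_mem_support_kernel γ (hall η)))
    haveI : IsIso γ := isIso_of_mono_of_epi γ
    have := EulerChar.euler_iso k (asIso γ)
    linarith
  refine ⟨Curv2.euler k X (kernel γ), ?_, ?_, fun hWe => hzero fun η => hinj η fun f hf => Or.inr ?_,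
    fun hUall => hzero fun η => hinj η fun f hf => Or.inl ?_⟩
  · exact EulerChar.euler_nonneg_of_support k hN (dim_support_le_zero hpure hN fun η hη =>
      CohDev.not_mem_support_kernel γ (hinjgen η hη))
  · linarith
  · haveI : Mono l := by
      refine mono_of_generic l hGZ.2.1 hGZ.2.2.1 hGU.2.1 fun θ hθ => (injective_iff_map_eq_zero _).2 fun x hx => ?_
      obtain ⟨f', rfl⟩ := stalk_surjective πZ θ x
      by_cases hZ : θ ∈ Z
      · have hY : θ ∉ Y := fun hY => hWe θ hθ ((hW θ hθ).2 ⟨hY, hZ⟩)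
        rw [hlπ] at hx
        obtain ⟨g, rfl⟩ := ((hz θ).2.1 f').1 (quot_injective hM hGU hθ (hU ▸ Or.inr hZ) (hx.trans (map_zero _).symm))
        haveI := quot_subsingleton hGY hY
        rw [@Subsingleton.elim (GY.presheaf.stalk θ) _ g 0, map_zero, map_zero]
      · haveI := quot_subsingleton hGZ hZ
        exact @Subsingleton.elim (GZ.presheaf.stalk θ) _ _ _
    exact CohDev.stalk_injective l η ((hlπ η f).trans (hf.trans (map_zero _).symm))
  · haveI : Mono πU := mono_of_generic πU hM.1 hM.2.1 hGU.2.1 fun θ hθ => quot_injective hM hGU hθ (hUall θ hθ)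
    exact CohDev.stalk_injective πU η (hf.trans (map_zero _).symm)

end Groth.Agent.TFOneLib
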