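import Groth.Agent.TFOneLib.Modif
import Groth.Agent.TFOneLib.ModifIneq
import Groth.Agent.TFOneLib.DegT
import Groth.Agent.ParaFormal.Elkik.RankN

/-!
# The β numbers of an elementary modification
-/

set_option autoImplicit false
set_option linter.style.haveILetI false
universe u

open CategoryTheory CategoryTheory.Limits AlgebraicGeometry TopologicalSpace

namespace Groth.Agent.TFOneLib

variable {R : Type u} [CommRing R] [IsDomain R] [IsDiscreteValuationRing R] {X : Scheme.{u}}
  (f : X ⟶ Spec (CommRingCat.of R)) [Flat f] [IsProper f] {Xs : Scheme.{u}}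
  [Xs.Over (Spec (CommRingCat.of (IsLocalRing.ResidueField R)))] (i : Xs ⟶ X)
  (hsq : IsPullback i (Xs ↘ Spec (CommRingCat.of (IsLocalRing.ResidueField R))) f
    (Spec.map (CommRingCat.ofHom (IsLocalRing.residue R))))
  [IsReduced Xs]

include hsq in
omit [Flat f] [IsReduced Xs] in
theorem isProper_special : IsProper (Xs ↘ Spec (CommRingCat.of (IsLocalRing.ResidueField R))) :=
  MorphismProperty.of_isPullback (P := @IsProper) hsq inferInstance

local notation "κ" => IsLocalRing.ResidueField R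
local notation "qs" => (Xs ↘ Spec (CommRingCat.of (IsLocalRing.ResidueField R)))

set_option maxHeartbeats 1000000 in
include hsq in
omit [Flat f] in
/-- The quotients of the special fibre of an elementary modification. -/
theorem beta_modif (hpure : ∀ C ∈ irreducibleComponents (Xs : Type u), topologicalKrullDim C = 1)
    (I : X.Modules) (hIc : Coh.IsCoh I) (hIf : FlatMod.IsFlatOver f I)
    (hIs : TFOne.IsTF1 Xs ((Scheme.Modules.pullback i).obj I)) (E : X.Modules) {r : ℕ}
    (hE : FlatMod.IsFinLocFreeOfRank r E) {Y : Set Xs} (hY : IsClosed Y)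
    {GY : Xs.Modules} {πY : ((Scheme.Modules.pullback i).obj I) ⟶ GY}
    (hGY : TFOne.IsQuotOn Xs ((Scheme.Modules.pullback i).obj I) Y GY πY) (IY : X.Modules)
    (hIY : IY = kernel ((Scheme.Modules.pullbackPushforwardAdjunction i).unit.app I ≫ (Scheme.Modules.pushforward i).map πY)) :
    TFOne.IsTF1 Xs ((Scheme.Modules.pullback i).obj IY) ∧
    ∀ (Z W U : Set Xs) (hZ : IsClosed Z) (hWc : IsClosed W) (hUc : IsClosed U)
      (GZ GW GU : Xs.Modules) (πZ : ((Scheme.Modules.pullback i).obj IY) ⟶ GZ)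
      (πW : ((Scheme.Modules.pullback i).obj I) ⟶ GW) (πU : ((Scheme.Modules.pullback i).obj I) ⟶ GU),
      TFOne.IsQuotOn Xs ((Scheme.Modules.pullback i).obj IY) Z GZ πZ →
      TFOne.IsQuotOn Xs ((Scheme.Modules.pullback i).obj I) W GW πW →
      TFOne.IsQuotOn Xs ((Scheme.Modules.pullback i).obj I) U GU πU →
      (∀ η ∈ genericPoints Xs, (η ∈ W ↔ η ∈ Y ∧ η ∈ Z)) → U = Y ∪ Z →
      ∃ δ : ℤ, 0 ≤ δ ∧
        Curv2.euler κ Xs GZ + Curv2.euler κ Xs GY = Curv2.euler κ Xs GW + Curv2.euler κ Xs GU + δ ∧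
        TFOne.rBeta Xs κ qs Z hZ ((Scheme.Modules.pullback i).obj E) r GZ +
          TFOne.rBeta Xs κ qs Y hY ((Scheme.Modules.pullback i).obj E) r GY =
        TFOne.rBeta Xs κ qs W hWc ((Scheme.Modules.pullback i).obj E) r GW +
          TFOne.rBeta Xs κ qs U hUc ((Scheme.Modules.pullback i).obj E) r GU + (r : ℤ) * δ ∧
        ((∀ η ∈ genericPoints Xs, η ∉ W) → δ = 0) ∧ ((∀ η ∈ genericPoints Xs, η ∈ U) → δ = 0) := by
  haveI := isProper_special f i hsq
  haveI := EulerChar.isNoetherian κ (X := Xs)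
  haveI : IsClosedImmersion (Spec.map (CommRingCat.ofHom (IsLocalRing.residue R))) :=
    IsClosedImmersion.spec_of_surjective _ IsLocalRing.residue_surjective
  haveI : IsClosedImmersion i := MorphismProperty.of_isPullback (P := @IsClosedImmersion) hsq.flip inferInstance
  haveI : IsLocallyNoetherian X := LocallyOfFiniteType.isLocallyNoetherian f
  haveI : CompactSpace X := QuasiCompact.compactSpace_of_compactSpace f
  haveI : AlgebraicGeometry.IsNoetherian X := ⟨⟩
  haveI : Epi πY := hGY.1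
  obtain ⟨φ, ψ, -, hz⟩ := exists_modif_seq f i hsq I hIf πY IY hIY
  haveI := hGY.2.1.1
  have hIYc : Coh.IsCoh IY := hIY ▸ CohDev.isCoh_kernel' _ hIc (CycLib.isCoh_push _ i hGY.2.1)
  have hF : TFOne.IsTF1 Xs ((Scheme.Modules.pullback i).obj IY) :=
    isTF1_modif hIs hGY (ZClosLib.CohDescent.isCoh_pullback i IY hIYc) hz
  refine ⟨hF, fun Z W U hZ hWc hUc GZ GW GU πZ πW πU hGZ hGW hGU hW hU => ?_⟩
  obtain ⟨δ, h0, he, h1, h2⟩ := euler_modif κ (fun C hC => (hpure C hC).le) hIs hGY hF hz hGZ hGW hGU hW hU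
  have hdeg := degOn_add (k := κ) hpure (hE := ParaFormal.Elkik.isFinLocFreeOfRank_pullback i hE) hWc hUc hY hZ
    (fun η hη => by rw [hW η hη, hU]; simp only [Set.mem_union]; tauto)
    (fun η hη => by rw [hW η hη, hU]; simp only [Set.mem_union]; tauto)
  refine ⟨δ, h0, he, ?_, h1, h2⟩
  rw [rBeta_eq, rBeta_eq, rBeta_eq, rBeta_eq]
  linear_combination (r : ℤ) * he - hdeg

end Groth.Agent.TFOneLib
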