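import Groth.Agent.TFOneLib.Quot
import Groth.Agent.EulerChar.Deg

/-!
# The trivial torsion-free quotients
-/

set_option autoImplicit false
set_option linter.style.haveILetI false
universe u

open CategoryTheory CategoryTheory.Limits AlgebraicGeometry TopologicalSpace
open Groth.Agent.PullStalk.Sky Groth.Agent.PullStalk.Exact

namespace Groth.Agent.TFOneLib

variable {X : Scheme.{u}}

theorem exists_generic_specializes (x : X) : ∃ η ∈ genericPoints X, η ⤳ x := by
  obtain ⟨η, hη⟩ := QuasiSober.sober (isIrreducible_irreducibleComponent (x := x)) isClosed_irreducibleComponent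
  exact ⟨η, by show closure ({η} : Set X) ∈ irreducibleComponents (X : Type u)
               rw [hη.def]; exact irreducibleComponent_mem_irreducibleComponents x,
    hη.specializes mem_irreducibleComponent⟩

/-- `M` is its own quotient on the whole space. -/
theorem isQuotOn_univ [IsReduced X] [AlgebraicGeometry.IsNoetherian X] {M : X.Modules} (hM : TFOne.IsTF1 X M) :
    TFOne.IsQuotOn X M Set.univ M (𝟙 M) :=
  ⟨inferInstance, hM.1, hM.2.1, Set.eq_univ_of_forall fun x => by
    obtain ⟨η, hη, hs⟩ := exists_generic_specializes x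
    exact hs.mem_closed (CohDev.isClosed_support hM.1) (stalk_support_generic hM.2.2 hη)⟩

/-- The zero module is the quotient on the empty set. -/
theorem exists_isQuotOn_empty [IsReduced X] [AlgebraicGeometry.IsNoetherian X] (M : X.Modules) :
    ∃ (G : X.Modules) (π : M ⟶ G), TFOne.IsQuotOn X M ∅ G π ∧ IsZero G := by
  let G : X.Modules := cokernel (𝟙 M)
  have hz : IsZero G := isZero_cokernel_of_epi (𝟙 M)
  have hsub : ∀ x : X, Subsingleton (G.presheaf.stalk x) := fun x => subsingleton_of_forall_eq 0 fun t => by
    rw [← CohDev.stalkLin_id_apply x t, hz.eq_of_src (𝟙 G) 0, CohDev.stalkLin_zero_apply]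
  exact ⟨G, cokernel.π _, ⟨inferInstance, CohDev.isCoh_of_isZero hz,
    fun x => Module.IsTorsionFree.mk fun r _ a b _ => @Subsingleton.elim _ (hsub x) a b,
    Set.eq_empty_iff_forall_notMem.2 fun x h => h (hsub x)⟩, hz⟩

theorem euler_isZero (k : Type u) [Field k] [X.Over (Spec (CommRingCat.of k))]
    [IsProper (X ↘ Spec (CommRingCat.of k))] [AlgebraicGeometry.IsNoetherian X] {G : X.Modules} (hz : IsZero G) :
    Curv2.euler k X G = 0 := by
  rw [← EulerChar.eulerK_kcl k (CohDev.isCoh_of_isZero hz), CohDev.kcl_of_isZero hz, map_zero]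

end Groth.Agent.TFOneLib
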