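import Groth.Agent.TFOneLib.Quot
import Groth.Agent.TFOneLib.QuotTriv
import Groth.Agent.CohDev.Kill
import Groth.Agent.S18844

/-!
# Existence of torsion-free quotients on unions of components
-/

set_option autoImplicit false
set_option linter.style.haveILetI false
universe u

open CategoryTheory CategoryTheory.Limits AlgebraicGeometry TopologicalSpace
open Groth.Agent.PullStalk.Sky Groth.Agent.PullStalk.Exact

namespace Groth.Agent.TFOneLib

variable {X : Scheme.{u}} [IsReduced X] [AlgebraicGeometry.IsNoetherian X]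

/-- The torsion-free quotient on a union of irreducible components exists. -/
theorem exists_isQuotOn {M : X.Modules} (hM : TFOne.IsTF1 X M) (T : Set X) (hT : IsClosed T)
    (hTu : ∀ x ∈ T, ∃ η ∈ genericPoints X, η ∈ T ∧ η ⤳ x) :
    ∃ (G : X.Modules) (π : M ⟶ G), TFOne.IsQuotOn X M T G π := by
  let S : Set (Set X) := {C | C ∈ irreducibleComponents (X : Type u) ∧ ¬ C ⊆ T}
  have hS : IsClosed (⋃₀ S) := by
    rw [Set.sUnion_eq_biUnion]
    exact (NoetherianSpace.finite_irreducibleComponents.subset fun C hC => hC.1).isClosed_biUnion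
      fun C hC => isClosed_of_mem_irreducibleComponents C hC.1
  let J := Scheme.IdealSheafData.vanishingIdeal (X := X) ⟨⋃₀ S, hS⟩
  have hsupp : (J.support : Set X) = ⋃₀ S := Scheme.IdealSheafData.coe_support_vanishingIdeal _
  let κ₀ := Props.SubSheaf.incl (CohDev.killFam J M)
  let G := cokernel κ₀
  let π : M ⟶ G := cokernel.π κ₀
  have hKc : Coh.IsCoh (CohDev.killSub J M) := CohDev.isCoh_killSub hM.1
  have hG : Coh.IsCoh G := CohDev.isCoh_cokernel κ₀ hKc.1 hM.1
  have hzero : ∀ (y : X) (t : M.presheaf.stalk y),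
      stalkLin π y t = 0 ↔ t ∈ CohDev.killFam J M y := fun y t => by
    haveI := hM.1.1
    constructor
    · intro h
      haveI : Mono κ₀ := inferInstanceAs (Mono (equalizer.ι (Props.SubSheaf.toQuot (CohDev.killFam J M)) 0))
      obtain ⟨-, ex, -⟩ := stalk_exact (S := ShortComplex.mk κ₀ π (cokernel.condition κ₀))
        { exact := ShortComplex.exact_of_g_is_cokernel _ (cokernelIsCokernel κ₀) } y
      obtain ⟨s, rfl⟩ := (ex t).1 h
      obtain ⟨U, hy, m, rfl⟩ := exists_germM_eq (CohDev.killSub J M) y s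
      rw [stalkLin_germ]
      exact (Props.SubSheaf.mem_range_incl _ _).1 ⟨m, rfl⟩ y hy
    · intro h
      obtain ⟨V, hV, hy, -⟩ := exists_isAffineOpen_mem_and_subset (X := X) (Opens.mem_top y)
      have hg := CohDev.genBy_killSec (I := J) (M := M) ⟨V, hV⟩ y hy
      have hle : CohDev.killFam J M y ≤ LinearMap.range (stalkLin κ₀ y) := by
        rw [hg]
        refine Submodule.span_le.2 ?_
        rintro _ ⟨m, hm, rfl⟩
        obtain ⟨m', hm'⟩ := (Props.SubSheaf.mem_range_incl (CohDev.killFam J M) m).2 fun z hz =>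
          CohDev.germ_mem_killFam (V := ⟨V, hV⟩) hm hz
        exact ⟨germM _ V y hy m', by rw [stalkLin_germ, hm']⟩
      obtain ⟨s, rfl⟩ := hle h
      rw [← CohDev.stalkLin_comp_apply, cokernel.condition, CohDev.stalkLin_zero_apply]
  have hin : ∀ η ∈ genericPoints X, η ∈ T → η ∉ ⋃₀ S := by
    rintro η hη hT' ⟨C, ⟨hC, hn⟩, hx⟩
    have hle : closure ({η} : Set X) ⊆ C :=
      closure_minimal (Set.singleton_subset_iff.2 hx) (isClosed_of_mem_irreducibleComponents C hC)
    exact hn ((hη.2 hC.1 hle).trans (closure_minimal (Set.singleton_subset_iff.2 hT') hT))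
  have hgT : ∀ η ∈ genericPoints X, η ∈ T → η ∈ CohB1.support G := fun η hη hT' h => by
    refine stalk_support_generic hM.2.2 hη (subsingleton_of_forall_eq 0 fun t => ?_)
    have ht := (hzero η t).1 (@Subsingleton.elim (G.presheaf.stalk η) h _ 0)
    obtain ⟨V, hV, hηV, -⟩ := exists_isAffineOpen_mem_and_subset (X := X) (Opens.mem_top η)
    have hns : η ∉ (J.support : Set X) := hsupp ▸ hin η hη hT'
    rw [SetLike.mem_coe, J.mem_support_iff_of_mem (U := ⟨V, hV⟩) hηV, Scheme.mem_zeroLocus_iff] at hns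
    push Not at hns
    obtain ⟨a, ha, hηa⟩ := hns
    exact ((Scheme.mem_basicOpen _ _ _ hηV).1 hηa).smul_eq_zero.1 (ht ⟨V, hV⟩ hηV a ha)
  have hgT' : ∀ η ∈ genericPoints X, η ∉ T → Subsingleton (G.presheaf.stalk η) := fun η hη hT' => by
    refine subsingleton_of_forall_eq 0 fun g => ?_
    obtain ⟨t, rfl⟩ := stalk_surjective π η g
    refine (hzero η t).2 fun V hηV a ha => ?_
    have hs : η ∈ (J.support : Set X) := by
      rw [hsupp]
      exact ⟨closure {η}, ⟨hη, fun h => hT' (h (subset_closure rfl))⟩, subset_closure rfl⟩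
    rw [SetLike.mem_coe, J.mem_support_iff_of_mem hηV, Scheme.mem_zeroLocus_iff] at hs
    letI := (isField_stalk hη).toField
    have h0 : X.presheaf.germ V.1 η hηV a = 0 := by
      by_contra hne
      exact hs a ha ((Scheme.mem_basicOpen _ _ _ hηV).2 (IsUnit.mk0 _ hne))
    rw [h0, zero_smul]
  have htf : TorSh.IsTorsionFree G := fun y => by
    haveI := hM.2.1 y
    refine Module.IsTorsionFree.mk fun r hr g g' hgg => sub_eq_zero.1 ?_
    obtain ⟨t, ht⟩ := stalk_surjective π y (g - g')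
    have h0 : stalkLin π y (r • t) = 0 := by rw [map_smul, ht, smul_sub]; exact sub_eq_zero.2 hgg
    rw [← ht]
    refine (hzero y t).2 fun V hy a ha => Module.IsTorsionFree.isSMulRegular hr ?_
    have := (hzero y _).1 h0 V hy a ha
    rw [smul_comm] at this
    exact this.trans (smul_zero r).symm
  refine ⟨G, π, inferInstance, hG, htf, Set.Subset.antisymm (fun x hx => ?_) fun x hx => ?_⟩
  · obtain ⟨S', hS', -, hsub⟩ := S18844.isSubcurve_support hG htf fun hz => hx (subsingleton_of_forall_eq 0 fun t => by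
      rw [← CohDev.stalkLin_id_apply x t, hz.eq_of_src (𝟙 G) 0, CohDev.stalkLin_zero_apply])
    obtain ⟨C, hC, hxC⟩ := (hsub ▸ hx : x ∈ ⋃₀ S')
    obtain ⟨η, hη⟩ := QuasiSober.sober (hS' hC).1 (isClosed_of_mem_irreducibleComponents C (hS' hC))
    have hgen : η ∈ genericPoints X := by
      show closure ({η} : Set X) ∈ irreducibleComponents (X : Type u)
      rw [hη.def]; exact hS' hC
    refine (hη.specializes hxC).mem_closed hT (by_contra fun h => ?_)
    exact (hsub ▸ ⟨C, hC, hη.mem⟩ : η ∈ CohB1.support G) (hgT' η hgen h)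
  · obtain ⟨η, hη, hηT, hs⟩ := hTu x hx
    exact hs.mem_closed (CohDev.isClosed_support hG) (hgT η hη hηT)

omit [IsReduced X] [AlgebraicGeometry.IsNoetherian X] in
theorem generic_of_sUnion {S : Set (Set X)} (hS : S ⊆ irreducibleComponents (X : Type u)) :
    ∀ x ∈ ⋃₀ S, ∃ η ∈ genericPoints X, η ∈ ⋃₀ S ∧ η ⤳ x := by
  rintro x ⟨C, hC, hx⟩
  obtain ⟨η, hη⟩ := QuasiSober.sober (hS hC).1 (isClosed_of_mem_irreducibleComponents C (hS hC))
  exact ⟨η, by show closure ({η} : Set X) ∈ irreducibleComponents (X : Type u)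
               rw [hη.def]; exact hS hC, ⟨C, hC, hη.mem⟩, hη.specializes hx⟩

theorem exists_isQuotOn_union {M : X.Modules} (hM : TFOne.IsTF1 X M) {A B : Set X} (hA : IsClosed A)
    (hB : IsClosed B) (hAs : VecSt.IsSubcurve X A) (hBs : VecSt.IsSubcurve X B) :
    ∃ (G : X.Modules) (π : M ⟶ G), TFOne.IsQuotOn X M (A ∪ B) G π := by
  obtain ⟨S, hS, -, rfl⟩ := hAs
  obtain ⟨S', hS', -, rfl⟩ := hBs
  exact exists_isQuotOn hM _ (hA.union hB) (by
    rw [← Set.sUnion_union]; exact generic_of_sUnion (Set.union_subset hS hS'))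

theorem exists_isQuotOn_meet {M : X.Modules} (hM : TFOne.IsTF1 X M) (A B : Set X) :
    ∃ (W : Set X) (_ : IsClosed W) (G : X.Modules) (π : M ⟶ G), TFOne.IsQuotOn X M W G π ∧
      W = ⋃₀ {C | C ∈ irreducibleComponents (X : Type u) ∧ C ⊆ A ∩ B} := by
  have hc : IsClosed (⋃₀ {C | C ∈ irreducibleComponents (X : Type u) ∧ C ⊆ A ∩ B}) := by
    rw [Set.sUnion_eq_biUnion]
    exact (NoetherianSpace.finite_irreducibleComponents.subset fun C hC => hC.1).isClosed_biUnion
      fun C hC => isClosed_of_mem_irreducibleComponents C hC.1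
  obtain ⟨G, π, hπ⟩ := exists_isQuotOn hM _ hc (generic_of_sUnion fun C hC => hC.1)
  exact ⟨_, hc, G, π, hπ, rfl⟩

end Groth.Agent.TFOneLib
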