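import Groth.Agent.TFOneLib.DegExtremes
import Groth.Agent.TFOneLib.QuotExists
import Groth.Agent.TFOneLib.ModifIneq
import Groth.Agent.EulerChar.Torsion

/-!
# β numbers, decompositions
-/

set_option autoImplicit false
set_option linter.style.haveILetI false
universe u

open CategoryTheory CategoryTheory.Limits AlgebraicGeometry TopologicalSpace
open Groth.Agent.PullStalk.Sky Groth.Agent.PullStalk.Exact

namespace Groth.Agent.TFOneLib

variable {k : Type u} [Field k] {X : Scheme.{u}} [X.Over (Spec (CommRingCat.of k))]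
  [IsProper (X ↘ Spec (CommRingCat.of k))] [IsReduced X]

local notation "q₀" => (X ↘ Spec (CommRingCat.of k))

omit [IsReduced X] in
theorem rBeta_empty [AlgebraicGeometry.IsNoetherian X] {n : ℕ} {E : X.Modules}
    (hE : FlatMod.IsFinLocFreeOfRank n E) {T : Set X} (hT : IsClosed T) (hempty : T = ∅) {M G : X.Modules}
    {π : M ⟶ G} (hπ : TFOne.IsQuotOn X M T G π) : TFOne.rBeta X k q₀ T hT E n G = 0 := by
  subst hempty
  rw [rBeta_eq, degOn_empty hE hT, euler_isZero k (CohDev.isZero_of_support_eq_empty hπ.2.2.2)]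
  simp

theorem rBeta_univ (hdim1 : ∀ Z ∈ irreducibleComponents (X : Type u), topologicalKrullDim Z = 1)
    {n : ℕ} {E : X.Modules} (hE : FlatMod.IsFinLocFreeOfRank n E) {T : Set X} (hT : IsClosed T)
    (huniv : T = Set.univ) {M : X.Modules} {d : ℤ} (hχ : Curv2.euler k X M = d)
    (hEd : Curv2.deg k X E n = -(n : ℤ) * d) : TFOne.rBeta X k q₀ T hT E n M = 0 := by
  subst huniv
  rw [rBeta_eq, degOn_univ hdim1 hE hT, hχ, hEd]
  ring

omit [IsReduced X] in
theorem isSubcurve_univ [Nonempty X] : VecSt.IsSubcurve X Set.univ :=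
  ⟨irreducibleComponents (X : Type u), subset_rfl,
    ⟨_, irreducibleComponent_mem_irreducibleComponents (Classical.arbitrary X)⟩, sUnion_irreducibleComponents.symm⟩

omit [IsReduced X] in
theorem euler_quot_unique [IsReduced X] {M G G' : X.Modules} (hM : TFOne.IsTF1 X M) {T : Set X}
    {π : M ⟶ G} {π' : M ⟶ G'} (hπ : TFOne.IsQuotOn X M T G π) (hπ' : TFOne.IsQuotOn X M T G' π') :
    Curv2.euler k X G = Curv2.euler k X G' := by
  haveI := EulerChar.isNoetherian k (X := X)
  obtain ⟨a, ha⟩ := exists_desc hM hπ hπ' subset_rfl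
  obtain ⟨b, hb⟩ := exists_desc hM hπ' hπ subset_rfl
  haveI : Epi π := hπ.1
  haveI : Epi π' := hπ'.1
  exact EulerChar.euler_iso k
    { hom := a, inv := b
      hom_inv_id := by rw [← cancel_epi π, ← Category.assoc, ha, hb, Category.comp_id]
      inv_hom_id := by rw [← cancel_epi π', ← Category.assoc, hb, ha, Category.comp_id] }

/-- Decomposition at complementary subcurves is detected by Euler characteristics. -/
theorem isIso_lift_iff (hpure : ∀ C ∈ irreducibleComponents (X : Type u), topologicalKrullDim C ≤ 1)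
    {F G1 G2 : X.Modules} (hF : TFOne.IsTF1 X F) {A B : Set X} {π1 : F ⟶ G1} {π2 : F ⟶ G2}
    (h1 : TFOne.IsQuotOn X F A G1 π1) (h2 : TFOne.IsQuotOn X F B G2 π2)
    (hdis : ∀ η ∈ genericPoints X, η ∈ A → η ∉ B) (hcov : A ∪ B = Set.univ) :
    IsIso (biprod.lift π1 π2) ↔ Curv2.euler k X F = Curv2.euler k X G1 + Curv2.euler k X G2 := by
  haveI := EulerChar.isNoetherian k (X := X)
  have hP := CohDev.isCoh_biprod h1.2.1 h2.2.1
  have e3 := EulerChar.euler_add k (X := X) (ShortComplex.Splitting.ofHasBinaryBiproduct G1 G2).shortExact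
    h1.2.1 hP h2.2.1
  dsimp only at e3
  let L := biprod.lift π1 π2
  have hfst : ∀ (η : X) t, stalkLin (biprod.fst : G1 ⊞ G2 ⟶ G1) η (stalkLin L η t) = stalkLin π1 η t := fun η t => by
    rw [← CohDev.stalkLin_comp_apply, biprod.lift_fst]
  have hsnd : ∀ (η : X) t, stalkLin (biprod.snd : G1 ⊞ G2 ⟶ G2) η (stalkLin L η t) = stalkLin π2 η t := fun η t => by
    rw [← CohDev.stalkLin_comp_apply, biprod.lift_snd]
  haveI : Mono L := mono_of_generic L hF.1 hF.2.1 hP fun η hη => (injective_iff_map_eq_zero _).2 fun t ht => by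
    rcases (hcov ▸ Set.mem_univ η : η ∈ A ∪ B) with h | h
    · exact quot_injective hF h1 hη h (by rw [← hfst, ht, map_zero, map_zero])
    · exact quot_injective hF h2 hη h (by rw [← hsnd, ht, map_zero, map_zero])
  have hC : Coh.IsCoh (cokernel L) := CohDev.isCoh_cokernel L hF.1.1 hP
  have e1 := EulerChar.euler_add k (X := X) (S := ShortComplex.mk L (cokernel.π L) (cokernel.condition L))
    { exact := ShortComplex.exact_of_g_is_cokernel _ (cokernelIsCokernel L) } hF.1 hP hC
  dsimp only at e1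
  constructor
  · intro hiso
    have := euler_isZero k (X := X) (isZero_cokernel_of_epi L)
    linarith
  · intro he
    have hd : topologicalKrullDim (CohB1.support (cokernel L)) ≤ 0 := dim_support_le_zero hpure hC fun η hη => by
      refine CohDev.not_mem_support_cokernel L fun x => ?_
      haveI : Epi π1 := h1.1
      haveI : Epi π2 := h2.1
      rcases (hcov ▸ Set.mem_univ η : η ∈ A ∪ B) with h | h
      · obtain ⟨t, ht⟩ := stalk_surjective π1 η (stalkLin (biprod.fst : G1 ⊞ G2 ⟶ G1) η x)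
        haveI := quot_subsingleton h2 (hdis η hη h)
        exact ⟨t, biprod_stalk_ext ((hfst η t).trans ht) (@Subsingleton.elim (G2.presheaf.stalk η) _ _ _)⟩
      · obtain ⟨t, ht⟩ := stalk_surjective π2 η (stalkLin (biprod.snd : G1 ⊞ G2 ⟶ G2) η x)
        haveI := quot_subsingleton h1 (fun hA => hdis η hη hA h)
        exact ⟨t, biprod_stalk_ext (@Subsingleton.elim (G1.presheaf.stalk η) _ _ _) ((hsnd η t).trans ht)⟩
    have hz : IsZero (cokernel L) := EulerChar.isZero_of_euler_eq_zero k hC hd (by linarith)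
    haveI : Epi L := Preadditive.epi_of_isZero_cokernel L hz
    exact isIso_of_mono_of_epi L

/-- β is non-negative on every union of components of a semistable sheaf. -/
theorem rBeta_nonneg (hdim1 : ∀ Z ∈ irreducibleComponents (X : Type u), topologicalKrullDim Z = 1)
    {n : ℕ} {E M : X.Modules} (hE : FlatMod.IsFinLocFreeOfRank n E) {d : ℤ} (hχ : Curv2.euler k X M = d)
    (hEd : Curv2.deg k X E n = -(n : ℤ) * d) (hss : TFOne.IsSemistable X k q₀ M E n)
    {T : Set X} (hT : IsClosed T) (hTs : VecSt.IsSubcurve X T ∨ T = ∅) {G : X.Modules} {π : M ⟶ G}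
    (hπ : TFOne.IsQuotOn X M T G π) : 0 ≤ TFOne.rBeta X k q₀ T hT E n G := by
  haveI := EulerChar.isNoetherian k (X := X)
  rcases hTs with hs | rfl
  · by_cases hu : T = Set.univ
    · subst hu
      have h := euler_quot_unique (k := k) hss.1 hπ (isQuotOn_univ hss.1)
      rw [rBeta_eq, h, ← rBeta_eq Set.univ hT, rBeta_univ hdim1 hE hT rfl hχ hEd]
    · exact hss.2 T hT hs hu G π hπ
  · exact (rBeta_empty hE hT rfl hπ).ge

omit [IsReduced X] in
theorem meet_subcurve_or_empty (A B : Set X) {W : Set X}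
    (hW : W = ⋃₀ {C | C ∈ irreducibleComponents (X : Type u) ∧ C ⊆ A ∩ B}) : VecSt.IsSubcurve X W ∨ W = ∅ := by
  subst hW
  by_cases h : {C | C ∈ irreducibleComponents (X : Type u) ∧ C ⊆ A ∩ B}.Nonempty
  · exact Or.inl ⟨_, fun C hC => hC.1, h, rfl⟩
  · exact Or.inr (by rw [Set.not_nonempty_iff_eq_empty.1 h, Set.sUnion_empty])

omit [IsReduced X] [IsProper (X ↘ Spec (CommRingCat.of k))] [X.Over (Spec (CommRingCat.of k))] in
theorem mem_meet_iff {A B W : Set X} (hA : IsClosed A) (hB : IsClosed B)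
    (hW : W = ⋃₀ {C | C ∈ irreducibleComponents (X : Type u) ∧ C ⊆ A ∩ B}) :
    ∀ η ∈ genericPoints X, (η ∈ W ↔ η ∈ A ∧ η ∈ B) := fun η hη => ⟨fun h => by
      rw [hW] at h
      obtain ⟨C, ⟨-, hC⟩, hx⟩ := h
      exact hC hx,
    fun h => by
      rw [hW]
      exact ⟨closure {η}, ⟨hη, closure_minimal (Set.singleton_subset_iff.2 h) (hA.inter hB)⟩, subset_closure rfl⟩⟩

omit [IsReduced X] [IsProper (X ↘ Spec (CommRingCat.of k))] [X.Over (Spec (CommRingCat.of k))] in
theorem isSubcurve_union {A B : Set X} (hA : VecSt.IsSubcurve X A) (hB : VecSt.IsSubcurve X B) :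
    VecSt.IsSubcurve X (A ∪ B) := by
  obtain ⟨S, hS, hn, rfl⟩ := hA
  obtain ⟨S', hS', -, rfl⟩ := hB
  exact ⟨S ∪ S', Set.union_subset hS hS', hn.mono Set.subset_union_left, (Set.sUnion_union S S').symm⟩

end Groth.Agent.TFOneLib
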