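import Groth.Agent.TFOneLib.DegT

/-!
# Degrees on a reduced closed subcurve, computed through any closed immersion
-/

set_option autoImplicit false
set_option linter.style.haveILetI false
universe u

open CategoryTheory CategoryTheory.Limits AlgebraicGeometry TopologicalSpace
open Groth.Agent.PullStalk.Sky Groth.Agent.PullStalk.Exact

namespace Groth.Agent.TFOneLib

variable {X : Scheme.{u}} [IsReduced X]

theorem length_push_structure {W : Scheme.{u}} (j : W ⟶ X) [IsClosedImmersion j] {T : Set X}
    (hj : Set.range j = T) {η : X} (hη : η ∈ genericPoints X) [Decidable (η ∈ T)] :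
    Module.length (X.presheaf.stalk η)
      (((Scheme.Modules.pushforward j).obj (Coh.structureModule W)).presheaf.stalk η) =
      if η ∈ T then 1 else 0 := by
  let O := Coh.structureModule W
  split_ifs with h
  · obtain ⟨z, rfl⟩ : η ∈ Set.range j := hj.ge h
    obtain ⟨e₀⟩ := EulerChar.stalk_ofRank
      (ProjTwist.isFinLocFreeOfRank_one (PicLoc.isInvertible_structureModule W)) z
    let e := (LinearEquiv.funUnique (Fin 1) (W.presheaf.stalk z) (W.presheaf.stalk z)).symm.trans e₀
    let w := (Equiv.ofBijective _ (pushGerm_bijective j O z)).symm (e 1)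
    have hw : pushGerm j O z w = e 1 := (Equiv.ofBijective _ (pushGerm_bijective j O z)).apply_symm_apply _
    have hmap : ∀ r, pushGerm j O z (r • w) = e (j.stalkMap z r) := fun r => by
      rw [pushGerm_smul, hw, ← map_smul, smul_eq_mul, mul_one]
    haveI : Nontrivial (W.presheaf.stalk z) := inferInstance
    letI := (isField_stalk hη).toField
    let μ : X.presheaf.stalk (j z) →ₗ[X.presheaf.stalk (j z)] ((Scheme.Modules.pushforward j).obj O).presheaf.stalk (j z) :=
      LinearMap.toSpanSingleton _ _ w
    have hμ : Function.Bijective μ := by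
      refine ⟨fun a b hab => (j.stalkMap z).hom.injective (e.injective ?_), fun t => ?_⟩
      · rw [← hmap, ← hmap]; exact congrArg _ hab
      · obtain ⟨r, hr⟩ := j.stalkMap_surjective z (e.symm (pushGerm j O z t))
        exact ⟨r, (pushGerm_bijective j O z).1 ((hmap r).trans (by rw [hr, e.apply_symm_apply]))⟩
    refine (LinearEquiv.ofBijective μ hμ).length_eq.symm.trans ?_
    exact Module.length_eq_one _ _
  · haveI := not_mem_support_push j O (fun h' => h (hj.le h'))
    exact Module.length_eq_zero

variable (k : Type u) [Field k] [X.Over (Spec (CommRingCat.of k))] [IsProper (X ↘ Spec (CommRingCat.of k))]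

set_option maxHeartbeats 1000000 in
/-- The degree on a closed subcurve only depends on the image of the closed immersion. -/
theorem degVia_eq_degOn (hdim1 : ∀ Z ∈ irreducibleComponents (X : Type u), topologicalKrullDim Z = 1)
    {n : ℕ} {E : X.Modules} (hE : FlatMod.IsFinLocFreeOfRank n E) {W : Scheme.{u}} (j : W ⟶ X) [IsClosedImmersion j]
    {T : Set X} (hT : IsClosed T) (hj : Set.range j = T) :
    @Curv2.deg k _ W ⟨j ≫ (X ↘ Spec (CommRingCat.of k))⟩ ((Scheme.Modules.pullback j).obj E) n =
      degOn k T hT E n := by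
  letI : W.Over (Spec (CommRingCat.of k)) := ⟨j ≫ (X ↘ Spec (CommRingCat.of k))⟩
  haveI : E.IsQuasicoherent := (VBLib.isCoh_of_ofRank hE).1
  haveI := EulerChar.isNoetherian k (X := X)
  haveI : IsLocallyNoetherian X := inferInstance
  haveI : IsLocallyNoetherian W := LocallyOfFiniteType.isLocallyNoetherian j
  classical
  haveI := (NoetherianSpace.finite_irreducibleComponents (α := X)).to_subtype
  cases nonempty_fintype (irreducibleComponents (X : Type u))
  let P := (Scheme.Modules.pushforward j).obj (Coh.structureModule W)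
  have hP : Coh.IsCoh P := ProperFin.isCoh_push_of_isFinite j _ (ProperFin.isCoh_structureModule _)
  let Q := ClSub.quotMod (Scheme.IdealSheafData.vanishingIdeal (X := X) ⟨T, hT⟩)
  have hQ : Coh.IsCoh Q := EulerChar.isCoh_quotMod k _
  have hsum : ∀ {G : X.Modules} (hG : Coh.IsCoh G), (∀ η ∈ genericPoints X, Module.length (X.presheaf.stalk η)
      (G.presheaf.stalk η) = if η ∈ T then 1 else 0) → EulerChar.dev k hE (CohDev.kcl G) =
      ∑ Z : irreducibleComponents (X : Type u),
        (if Z.2.1.genericPoint ∈ T then 1 else 0) *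
          @Curv2.deg k _ (X.irreducibleComponentIdeal Z.1 Z.2).radical.subscheme
            ⟨(X.irreducibleComponentIdeal Z.1 Z.2).radical.subschemeι ≫ (X ↘ (Spec (CommRingCat.of k)))⟩
            ((Scheme.Modules.pullback (X.irreducibleComponentIdeal Z.1 Z.2).radical.subschemeι).obj E) n := by
    intro G hG hlen
    refine (EulerChar.dev_kcl k hE hG).trans ?_
    have h := EulerChar.ComponentsTens.euler_tens_eq_sum k hdim1 hE hG
    have heq : CohB1.tensorMod E G = CohDev.tens E G := rfl
    rw [finsum_eq_sum_of_fintype, heq] at h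
    refine (sub_eq_of_eq_add h).trans (Finset.sum_congr rfl fun Z _ => ?_)
    have hgen : Z.2.1.genericPoint ∈ genericPoints X := by
      show closure ({Z.2.1.genericPoint} : Set X) ∈ irreducibleComponents (X : Type u)
      rw [(Z.2.1.isGenericPoint_genericPoint_closure).def, (isClosed_of_mem_irreducibleComponents Z.1 Z.2).closure_eq]
      exact Z.2
    rw [hlen _ hgen]
    split_ifs <;> rfl
  refine Eq.trans ?_ ((hsum hP fun η hη => length_push_structure j hj hη).trans
    ((hsum hQ fun η hη => length_quot_generic T hT hη).symm.trans (EulerChar.dev_quotMod k _ hE)))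
  rw [EulerChar.dev_kcl k hE hP, Curv2.deg, EulerChar.euler_iso k (EulerChar.tensQuotIso j E),
    EulerChar.euler_push j rfl _ inferInstance,
    EulerChar.euler_push j rfl _ (ProjTwist.isQuasicoherent_structureModule W)]

omit [IsReduced X] in
theorem degVia_comp {V W : Scheme.{u}} (a : W ⟶ V) (b : V ⟶ X) [IsClosedImmersion a] [IsClosedImmersion b] (E : X.Modules) (n : ℕ) :
    @Curv2.deg k _ W ⟨a ≫ b ≫ (X ↘ Spec (CommRingCat.of k))⟩
        ((Scheme.Modules.pullback a).obj ((Scheme.Modules.pullback b).obj E)) n =
      @Curv2.deg k _ W ⟨(a ≫ b) ≫ (X ↘ Spec (CommRingCat.of k))⟩ ((Scheme.Modules.pullback (a ≫ b)).obj E) n := by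
  rw [Category.assoc]
  letI : W.Over (Spec (CommRingCat.of k)) := ⟨a ≫ b ≫ (X ↘ Spec (CommRingCat.of k))⟩
  haveI : IsProper (W ↘ Spec (CommRingCat.of k)) :=
    inferInstanceAs (IsProper (a ≫ b ≫ (X ↘ Spec (CommRingCat.of k))))
  exact congrArg (fun t => t - (n : ℤ) * Curv2.euler k W (Coh.structureModule W))
    (EulerChar.euler_iso k ((Scheme.Modules.pullbackComp a b).app E))

end Groth.Agent.TFOneLib
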