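import Groth.Agent.TFOneLib.BetaFacts
import Groth.Agent.TFOneLib.ModifBeta
import Groth.Agent.TFOneLib.DegVia
import Groth.Agent.CycLib.DevClosedK0

/-!
# Torsion-free sheaves supported on a subcurve, seen on the subcurve
-/

set_option autoImplicit false
set_option linter.style.haveILetI false
universe u

open CategoryTheory CategoryTheory.Limits AlgebraicGeometry TopologicalSpace
open Groth.Agent.PullStalk.Sky Groth.Agent.PullStalk.Exact Groth.Agent.PullStalk.Basic

namespace Groth.Agent.TFOneLib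

/-- A regular element outside the minimal primes: annihilator criterion in a reduced Noetherian ring. -/
theorem eq_zero_of_forall_minimalPrimes {A V : Type u} [CommRing A] [IsNoetherianRing A] [IsReduced A]
    [AddCommGroup V] [Module A V] [Module.IsTorsionFree A V] {v : V}
    (h : ∀ p ∈ minimalPrimes A, ∃ a, a ∉ p ∧ a • v = 0) : v = 0 := by
  let J : Ideal A := LinearMap.ker (LinearMap.toSpanSingleton A V v)
  by_contra hv
  have hsub : (J : Set A) ⊆ ⋃ p ∈ minimalPrimes A, (p : Set A) := fun a ha => by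
    by_contra hn
    simp only [Set.mem_iUnion, SetLike.mem_coe, not_exists] at hn
    have hreg : IsRegular a := isRegular_iff_mem_nonZeroDivisors.2 (mem_nonZeroDivisors_iff_right.2 fun b hb => by
      have : b ∈ sInf (minimalPrimes A) := Submodule.mem_sInf.2 fun p hp =>
        ((hp.1.1).mem_or_mem (show b * a ∈ p by rw [hb]; exact zero_mem _)).resolve_right (hn p hp)
      have hnil : sInf (minimalPrimes A) = ⊥ := by
        rw [show minimalPrimes A = (⊥ : Ideal A).minimalPrimes from rfl, Ideal.sInf_minimalPrimes]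
        exact (Submodule.eq_bot_iff _).2 fun x hx => by
          obtain ⟨n, hn⟩ := hx
          exact IsNilpotent.eq_zero ⟨n, hn⟩
      rw [hnil] at this
      exact this)
    exact hv (Module.IsTorsionFree.isSMulRegular hreg ((show a • v = 0 from ha).trans (smul_zero a).symm))
  obtain ⟨p, hp, hle⟩ := (Ideal.subset_union_prime_finite (minimalPrimes.finite_of_isNoetherianRing A) ⊥ ⊥
    (fun p hp _ _ => hp.1.1)).1 hsub
  obtain ⟨a, hap, hav⟩ := h p hp
  exact hap (hle hav)

variable {X : Scheme.{u}} [IsReduced X] [AlgebraicGeometry.IsNoetherian X] {Y : Set X} (hY : IsClosed Y)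

local notation "ι" => VecSt.subschι X Y hY

/-- A torsion-free sheaf with support on `Y` comes from `Y`. -/
theorem isIso_unit_quot {M G : X.Modules} {π : M ⟶ G}
    (hG : TFOne.IsQuotOn X M Y G π) :
    IsIso ((Scheme.Modules.pullbackPushforwardAdjunction ι).unit.app G) := by
  haveI : LocallyOfFiniteType ι := inferInstance
  haveI := hG.2.1.1
  have hP := ZClosLib.CohDescent.isCoh_pullback ι G hG.2.1
  haveI := hP.1
  haveI : Mono ((Scheme.Modules.pullbackPushforwardAdjunction ι).unit.app G) := by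
    refine mono_of_generic _ hG.2.1 hG.2.2.1 (CycLib.isCoh_push _ ι hP) fun η hη =>
      (injective_iff_map_eq_zero _).2 fun t ht => ?_
    by_cases hηY : η ∈ Y
    · obtain ⟨z, rfl⟩ : η ∈ Set.range ι := by
        rw [Scheme.IdealSheafData.range_subschemeι]; exact hηY
      have h := CycLib.Dev.ClosedK0.ker_unit_le ι G z t ((CycLib.Dev.ClosedK0.unit_stalk_eq_zero_iff ι G z t).1 ht)
      have hb : CycLib.Dev.ClosedK0.J ι z = ⊥ := (Submodule.eq_bot_iff _).2 fun a ha => by
        by_contra hne
        obtain ⟨b, hb⟩ := (isField_stalk hη).mul_inv_cancel hne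
        have := congrArg (Scheme.Hom.stalkMap ι z).hom hb
        rw [map_mul, RingHom.mem_ker.1 ha, zero_mul, map_one] at this
        exact zero_ne_one this
      rw [hb, Submodule.bot_smul, Submodule.mem_bot] at h
      exact h
    · haveI := quot_subsingleton hG hηY
      exact @Subsingleton.elim (G.presheaf.stalk η) _ _ _
  haveI : Epi ((Scheme.Modules.pullbackPushforwardAdjunction ι).unit.app G) :=
    epi_of_stalks _ (CycLib.Dev.ClosedK0.unit_stalk_surjective ι G)
  exact isIso_of_mono_of_epi _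

/-- The restriction of a quotient on `Y` to `Y` is torsion-free of rank one. -/
theorem isTF1_pull_quot {M G : X.Modules} {π : M ⟶ G} (hM : TFOne.IsTF1 X M)
    (hG : TFOne.IsQuotOn X M Y G π) :
    TFOne.IsTF1 (VecSt.subsch X Y hY) ((Scheme.Modules.pullback ι).obj G) := by
  haveI := hG.2.1.1
  haveI : LocallyOfFiniteType ι := inferInstance
  haveI : IsLocallyNoetherian (VecSt.subsch X Y hY) := LocallyOfFiniteType.isLocallyNoetherian ι
  haveI := isIso_unit_quot hY hG
  let P := (Scheme.Modules.pullback ι).obj G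
  let u := (Scheme.Modules.pullbackPushforwardAdjunction ι).unit.app G
  have hbij : ∀ z, Function.Bijective (stalkLin u (ι z)) := fun z =>
    ⟨CohDev.stalk_injective u _, stalk_surjective u _⟩
  refine ⟨ZClosLib.CohDescent.isCoh_pullback ι G hG.2.1, fun z => ?_, fun z hz => ?_⟩
  · refine Module.IsTorsionFree.mk fun r hr v v' hvv => sub_eq_zero.1 ?_
    have h0 : r • (v - v') = 0 := by rw [smul_sub]; exact sub_eq_zero.2 hvv
    obtain ⟨w', hw'⟩ := (pushGerm_bijective ι P z).2 (v - v')
    obtain ⟨w, rfl⟩ := (hbij z).2 w'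
    have hact : ∀ a, (Scheme.Hom.stalkMap ι z a • (v - v') = 0) → a • w = 0 := fun a ha =>
      (hbij z).1 ((pushGerm_bijective ι P z).1 (by
        rw [map_smul, pushGerm_smul, hw', ha, map_zero, map_zero]))
    haveI := hG.2.2.1 (ι z)
    have hw : w = 0 := by
      refine eq_zero_of_forall_minimalPrimes (A := X.presheaf.stalk (ι z)) (V := G.presheaf.stalk (ι z)) fun p hp => ?_
      let φ := (Scheme.Hom.stalkMap ι z).hom
      have hφ : Function.Surjective φ := Scheme.Hom.stalkMap_surjective ι z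
      obtain ⟨r', rfl⟩ := hφ r
      by_cases hk : RingHom.ker φ ≤ p
      · refine ⟨r', fun hr' => ?_, hact r' h0⟩
        haveI := hp.1.1
        have hmin : p.map φ ∈ minimalPrimes _ := by
          refine ⟨⟨Ideal.map_isPrime_of_surjective hφ hk, bot_le⟩, fun q hq hle => ?_⟩
          have h1 : q.comap φ ≤ p := (Ideal.comap_mono hle).trans (by
            rw [Ideal.comap_map_of_surjective φ hφ, ← RingHom.ker_eq_comap_bot]; exact sup_le le_rfl hk)
          haveI := hq.1
          rw [← Ideal.map_comap_of_surjective φ hφ q]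
          exact Ideal.map_mono (hp.2 ⟨inferInstance, bot_le⟩ h1)
        exact Set.disjoint_left.1 (Ideal.disjoint_nonZeroDivisors_of_mem_minimalPrimes hmin)
          (Ideal.mem_map_of_mem φ hr') (isRegular_iff_mem_nonZeroDivisors.1 hr)
      · obtain ⟨a, ha, hap⟩ := SetLike.not_le_iff_exists.1 hk
        exact ⟨a, hap, hact a (by rw [show Scheme.Hom.stalkMap ι z a = 0 from ha, zero_smul])⟩
    rw [← hw', hw, map_zero, map_zero]
  · have hr : Set.range ι = Y := by rw [Scheme.IdealSheafData.range_subschemeι]; rfl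
    have hzY : ι z ∈ Y := hr.le ⟨z, rfl⟩
    have hsub : VecSt.IsSubcurve X (CohB1.support G) := S18844.isSubcurve_support hG.2.1 hG.2.2.1
      fun hh => (show ι z ∈ CohB1.support G by rw [hG.2.2.2]; exact hzY) (subsingleton_of_forall_eq 0 fun t => by
        rw [← CohDev.stalkLin_id_apply (ι z) t, hh.eq_of_src (𝟙 G) 0, CohDev.stalkLin_zero_apply])
    have hη : ι z ∈ genericPoints X := map_mem_genericPoints ι (Y := Y) (by rwa [hG.2.2.2] at hsub) hr hz
    haveI : Epi π := hG.1
    obtain ⟨e₀⟩ := hM.2.2 (ι z) hη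
    have hπ : Function.Bijective (stalkLin π (ι z)) :=
      ⟨quot_injective hM hG hη (hr.le ⟨z, rfl⟩), stalk_surjective π _⟩
    let Φ : X.presheaf.stalk (ι z) → P.presheaf.stalk z := fun a =>
      pushGerm ι P z (stalkLin u (ι z) (stalkLin π (ι z) (e₀.symm a)))
    have hΦ : Function.Bijective Φ := (pushGerm_bijective ι P z).comp
      ((hbij z).comp (hπ.comp e₀.symm.bijective))
    have hs : ∀ a, Φ a = Scheme.Hom.stalkMap ι z a • Φ 1 := fun a => by
      simp only [Φ]
      rw [← pushGerm_smul, ← map_smul, ← map_smul, ← map_smul, smul_eq_mul, mul_one]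
    let μ : (VecSt.subsch X Y hY).presheaf.stalk z →ₗ[(VecSt.subsch X Y hY).presheaf.stalk z] P.presheaf.stalk z :=
      LinearMap.toSpanSingleton _ _ (Φ 1)
    have hμ : Function.Bijective μ := by
      refine ⟨fun b b' hbb => ?_, fun v => ?_⟩
      · obtain ⟨a, rfl⟩ := Scheme.Hom.stalkMap_surjective ι z b
        obtain ⟨a', rfl⟩ := Scheme.Hom.stalkMap_surjective ι z b'
        exact congrArg _ (hΦ.1 ((hs a).trans (hbb.trans (hs a').symm)))
      · obtain ⟨a, rfl⟩ := hΦ.2 v
        exact ⟨_, (hs a).symm⟩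
    exact ⟨(LinearEquiv.ofBijective μ hμ).symm⟩

variable (k : Type u) [Field k] [X.Over (Spec (CommRingCat.of k))] [IsProper (X ↘ Spec (CommRingCat.of k))]

set_option maxHeartbeats 1000000 in
/-- The β numbers computed on the subcurve are β numbers on the ambient curve. -/
theorem rBeta_sub (hdim1 : ∀ Z ∈ irreducibleComponents (X : Type u), topologicalKrullDim Z = 1)
    {n : ℕ} {E M GY : X.Modules} (hE : FlatMod.IsFinLocFreeOfRank n E) (hM : TFOne.IsTF1 X M) {πY : M ⟶ GY}
    (hGY : TFOne.IsQuotOn X M Y GY πY) (hYs : VecSt.IsSubcurve X Y)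
    {Z : Set (VecSt.subsch X Y hY)} (hZ : IsClosed Z) (hZs : VecSt.IsSubcurve (VecSt.subsch X Y hY) Z)
    {G : (VecSt.subsch X Y hY).Modules} {π : (Scheme.Modules.pullback ι).obj GY ⟶ G}
    (hπ : TFOne.IsQuotOn (VecSt.subsch X Y hY) ((Scheme.Modules.pullback ι).obj GY) Z G π) :
    ∃ (T : Set X) (hT : IsClosed T) (G' : X.Modules) (π' : M ⟶ G'), VecSt.IsSubcurve X T ∧
      TFOne.IsQuotOn X M T G' π' ∧
      TFOne.rBeta (VecSt.subsch X Y hY) k (ι ≫ (X ↘ Spec (CommRingCat.of k))) Z hZ
          ((Scheme.Modules.pullback ι).obj E) n G =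
        TFOne.rBeta X k (X ↘ Spec (CommRingCat.of k)) T hT E n G' := by
  letI : (VecSt.subsch X Y hY).Over (Spec (CommRingCat.of k)) := ⟨ι ≫ (X ↘ Spec (CommRingCat.of k))⟩
  haveI : IsProper ((VecSt.subsch X Y hY) ↘ Spec (CommRingCat.of k)) :=
    inferInstanceAs (IsProper (ι ≫ (X ↘ Spec (CommRingCat.of k))))
  haveI := EulerChar.isNoetherian k (X := VecSt.subsch X Y hY)
  have hr : Set.range ι = Y := by rw [Scheme.IdealSheafData.range_subschemeι]; rfl
  haveI : Epi π := hπ.1
  haveI := hπ.2.1.1
  have hemb := Scheme.Hom.isClosedEmbedding ι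
  let T : Set X := ι '' Z
  have hT : IsClosed T := hemb.isClosedMap Z hZ
  have hTs : VecSt.IsSubcurve X T := by
    obtain ⟨S, hS, hne, hZS⟩ := hZs
    refine ⟨(fun C => ι '' C) '' S, ?_, hne.image _, by rw [show T = ι '' Z from rfl, hZS, Set.image_sUnion]⟩
    rintro _ ⟨C, hC, rfl⟩
    obtain ⟨w, hw⟩ := QuasiSober.sober (hS hC).1 (isClosed_of_mem_irreducibleComponents C (hS hC))
    have hg := map_mem_genericPoints ι hYs hr (z := w) (by
      show closure ({w} : Set _) ∈ irreducibleComponents _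
      rw [hw.def]; exact hS hC)
    have himg : ι '' C = closure {ι w} := by rw [← hw.def, ← hemb.closure_image_eq, Set.image_singleton]
    show ι '' C ∈ _
    rw [himg]
    exact hg
  obtain ⟨G', π', hG'⟩ := exists_isQuotOn hM T hT (by
    obtain ⟨S, hS, -, hTS⟩ := hTs
    rw [hTS]
    exact generic_of_sUnion hS)
  refine ⟨T, hT, G', π', hTs, hG', ?_⟩
  -- Euler characteristics
  let P := (Scheme.Modules.pushforward ι).obj G
  haveI : Epi πY := hGY.1
  haveI : Epi π' := hG'.1
  haveI := isIso_unit_quot hY hGY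
  haveI := epi_push ι π
  let ρ : M ⟶ P := πY ≫ (Scheme.Modules.pullbackPushforwardAdjunction ι).unit.app GY ≫ (Scheme.Modules.pushforward ι).map π
  haveI : Epi ρ := epi_comp _ _
  have hP : Coh.IsCoh P := CycLib.isCoh_push _ ι hπ.2.1
  have hPass : ∀ y, CohDev.Assoc P y → y ∈ genericPoints X := fun y hy =>
    mem_genericPoints_of_assoc_push ι hYs hr hπ.2.2.1 hy
  have hsupp : ∀ η : X, η ∈ CohB1.support P ↔ η ∈ T := fun η => by
    constructor
    · intro h
      by_cases hη : η ∈ Set.range ι
      · obtain ⟨z, rfl⟩ := hη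
        refine ⟨z, hπ.2.2.2 ▸ fun hs => h ?_, rfl⟩
        exact @Equiv.subsingleton _ _ (Equiv.ofBijective _ (pushGerm_bijective ι G z)) hs
      · exact absurd (not_mem_support_push ι G hη) h
    · rintro ⟨z, hz, rfl⟩ hs
      exact (hπ.2.2.2.symm ▸ hz : z ∈ CohB1.support G)
        (@Equiv.subsingleton _ _ (Equiv.ofBijective _ (pushGerm_bijective ι G z)).symm hs)
  have hS1 : (ShortComplex.mk (kernel.ι π') π' (kernel.condition π')).ShortExact :=
    { exact := ShortComplex.exact_of_f_is_kernel _ (kernelIsKernel π') }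
  have hS2 : (ShortComplex.mk (kernel.ι ρ) ρ (kernel.condition ρ)).ShortExact :=
    { exact := ShortComplex.exact_of_f_is_kernel _ (kernelIsKernel ρ) }
  have hz1 : kernel.ι π' ≫ ρ = 0 := by
    refine eq_zero_of_generic _ (CohDev.isCoh_kernel' π' hM.1 hG'.2.1) hP.1 hPass fun η hη t => ?_
    by_cases hηT : η ∈ T
    · have h0 : stalkLin (kernel.ι π') η t = 0 := quot_injective hM hG' hη hηT (by
        rw [← CohDev.stalkLin_comp_apply, kernel.condition, CohDev.stalkLin_zero_apply, map_zero])
      rw [CohDev.stalkLin_comp_apply, h0, map_zero]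
    · haveI : Subsingleton (P.presheaf.stalk η) := not_not.1 fun h => hηT ((hsupp η).1 h)
      exact @Subsingleton.elim (P.presheaf.stalk η) _ _ _
  have hz2 : kernel.ι ρ ≫ π' = 0 := by
    refine eq_zero_of_generic _ (CohDev.isCoh_kernel' ρ hM.1 hP) hG'.2.1.1
      (fun _ hy => mem_genericPoints_of_assoc hG'.2.2.1 hy) fun η hη t => ?_
    by_cases hηT : η ∈ T
    · have h0 : stalkLin (kernel.ι ρ) η t = 0 := injective_of_rkOne hM.2.2 ρ hη ((hsupp η).2 hηT) (by
        rw [← CohDev.stalkLin_comp_apply, kernel.condition, CohDev.stalkLin_zero_apply, map_zero])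
      rw [CohDev.stalkLin_comp_apply, h0, map_zero]
    · haveI := quot_subsingleton hG' hηT
      exact @Subsingleton.elim (G'.presheaf.stalk η) _ _ _
  let a : G' ⟶ P := hS1.gIsCokernel.desc (CokernelCofork.ofπ _ hz1)
  have ha : π' ≫ a = ρ := hS1.gIsCokernel.fac (CokernelCofork.ofπ _ hz1) WalkingParallelPair.one
  let b : P ⟶ G' := hS2.gIsCokernel.desc (CokernelCofork.ofπ _ hz2)
  have hb : ρ ≫ b = π' := hS2.gIsCokernel.fac (CokernelCofork.ofπ _ hz2) WalkingParallelPair.one
  have heul : Curv2.euler k X G' = Curv2.euler k (VecSt.subsch X Y hY) G :=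
    (EulerChar.euler_iso k
      { hom := a, inv := b
        hom_inv_id := by rw [← cancel_epi π', ← Category.assoc, ha, hb, Category.comp_id]
        inv_hom_id := by rw [← cancel_epi ρ, ← Category.assoc, hb, ha, Category.comp_id] }).trans
      (EulerChar.euler_push ι rfl G hπ.2.1.1)
  -- degrees
  let W := VecSt.subsch (VecSt.subsch X Y hY) Z hZ
  let j : W ⟶ X := VecSt.subschι (VecSt.subsch X Y hY) Z hZ ≫ ι
  have hj : Set.range j = T := by
    show Set.range (⇑ι ∘ ⇑(VecSt.subschι (VecSt.subsch X Y hY) Z hZ)) = T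
    rw [Set.range_comp, Scheme.IdealSheafData.range_subschemeι]
    rfl
  have hdeg : degOn k Z hZ ((Scheme.Modules.pullback ι).obj E) n = degOn k T hT E n := by
    refine Eq.trans ?_ (degVia_eq_degOn k hdim1 hE j hT hj)
    exact degVia_comp k (VecSt.subschι (VecSt.subsch X Y hY) Z hZ) ι E n
  rw [rBeta_eq, heul, ← hdeg]
  rfl

end Groth.Agent.TFOneLib
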