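import Groth.Agent.TFOneLib.Modif
import Groth.Agent.DVRExt.Basic
import Groth.Agent.BigVol.FibReg

/-!
# Flatness over a discrete valuation ring; vanishing from the special fibre
-/

set_option autoImplicit false
set_option linter.style.haveILetI false
universe u

open CategoryTheory CategoryTheory.Limits AlgebraicGeometry TopologicalSpace Opposite
open Groth.Agent.PullStalk.Sky Groth.Agent.PullStalk.Exact

namespace Groth.Agent.TFOneLib

variable {R : Type u} [CommRing R] [IsDomain R] [IsDiscreteValuationRing R] {X : Scheme.{u}}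
  [X.Over (Spec (CommRingCat.of R))]

theorem mono_smulMod_of_irreducible {F : X.Modules} {ϖ : R} (hϖ : Irreducible ϖ)
    [Mono (Formal.smulMod R F ϖ)] {a : R} (ha : a ≠ 0) : Mono (Formal.smulMod R F a) := by
  obtain ⟨n, u, rfl⟩ := IsDiscreteValuationRing.eq_unit_mul_pow_irreducible ha hϖ
  have h1 : Formal.smulMod R F 1 = 𝟙 F := by
    refine Scheme.Modules.hom_ext _ _ fun U => ?_
    ext x
    show (Formal.smulMod R F 1).app U x = x
    rw [FormalFun.smulMod_app, map_one, one_smul]
  haveI : Mono (Formal.smulMod R F (u : R)) := by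
    haveI : Mono (Formal.smulMod R F (u : R) ≫ Formal.smulMod R F ((u⁻¹ : Rˣ) : R)) := by
      rw [smulMod_mul', Units.inv_mul, h1]; infer_instance
    exact mono_of_mono _ (Formal.smulMod R F ((u⁻¹ : Rˣ) : R))
  haveI : Mono (Formal.smulMod R F (ϖ ^ n)) := by
    induction n with
    | zero => rw [pow_zero, h1]; infer_instance
    | succ n ih =>
      haveI := ih (ha := pow_ne_zero _ hϖ.ne_zero |> mul_ne_zero u.ne_zero)
      rw [pow_succ', ← smulMod_mul']
      exact mono_comp _ _
  rw [← smulMod_mul']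
  exact mono_comp _ _

/-- A module without `ϖ`-torsion is flat over the discrete valuation ring. -/
theorem isFlatOver_of_mono_smulMod {F : X.Modules} {ϖ : R} (hϖ : Irreducible ϖ)
    [Mono (Formal.smulMod R F ϖ)] : FlatMod.IsFlatOver (X ↘ Spec (CommRingCat.of R)) F := by
  intro x
  let π := X ↘ Spec (CommRingCat.of R)
  let S := Spec (CommRingCat.of R)
  let top := isAffineOpen_top S
  let e : R ≃+* Γ(S, ⊤) := (Scheme.ΓSpecIso (CommRingCat.of R)).symm.commRingCatIsoToRingEquiv
  haveI : IsDomain Γ(S, ⊤) := e.symm.toMulEquiv.isDomain R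
  haveI : IsBezout Γ(S, ⊤) := Function.Surjective.isBezout e.toRingHom e.surjective
  letI := FlatMod.moduleStalkOver π F x
  letI := TopCat.Presheaf.algebra_section_stalk S.presheaf (⟨π x, trivial⟩ : (⊤ : S.Opens))
  haveI := top.isLocalization_stalk ⟨π x, trivial⟩
  letI : Module Γ(S, ⊤) (F.presheaf.stalk x) :=
    Module.compHom _ (algebraMap Γ(S, ⊤) (S.presheaf.stalk (π x)))
  haveI : IsScalarTower Γ(S, ⊤) (S.presheaf.stalk (π x)) (F.presheaf.stalk x) :=
    IsScalarTower.of_algebraMap_smul fun _ _ => rfl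
  show Module.Flat (S.presheaf.stalk (π x)) (F.presheaf.stalk x)
  rw [Module.flat_iff_of_isLocalization (R := Γ(S, ⊤))
    (S := S.presheaf.stalk (π x)) (top.primeIdealOf ⟨π x, trivial⟩).asIdeal.primeCompl,
    Module.Flat.flat_iff_torsion_eq_bot_of_isBezout]
  refine eq_bot_iff.2 fun t ⟨⟨a, ha⟩, hat⟩ => ?_
  obtain ⟨r, rfl⟩ := e.surjective a
  have hr : r ≠ 0 := fun h => nonZeroDivisors.ne_zero ha (by rw [h, map_zero])
  haveI := mono_smulMod_of_irreducible (F := F) hϖ hr
  refine (Submodule.mem_bot _).2 (CohDev.stalk_injective (Formal.smulMod R F r) x ?_)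
  rw [map_zero, stalkLin_smulMod']
  exact hat

omit [IsDomain R] [IsDiscreteValuationRing R] in
/-- A coherent module on a proper scheme over a local ring is zero when its restriction to the closed fibre is. -/
theorem isZero_of_special [IsLocalRing R] [IsProper (X ↘ Spec (CommRingCat.of R))] {Xs : Scheme.{u}} (i : Xs ⟶ X)
    (hrange : ∀ x : X, (X ↘ Spec (CommRingCat.of R)) x = IsLocalRing.closedPoint R → x ∈ Set.range i)
    {C : X.Modules} (hC : Coh.IsCoh C) (hz : IsZero ((Scheme.Modules.pullback i).obj C)) : IsZero C := by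
  refine CohDev.isZero_of_support_eq_empty (Set.eq_empty_of_forall_notMem fun x hx => ?_)
  haveI : Coh.IsQCoh C := hC.1
  have hcl : IsClosed (CohB1.support C) := CohDev.isClosed_support hC
  have him := (X ↘ Spec (CommRingCat.of R)).isClosedMap _ hcl
  obtain ⟨y, hy, hyc⟩ := ((IsLocalRing.specializes_closedPoint _).mem_closed him ⟨x, hx, rfl⟩ :
    IsLocalRing.closedPoint R ∈ _)
  obtain ⟨z, rfl⟩ := hrange y hyc
  have hs := HilbPolyX.support_eq_empty_of_isZero hz
  rw [S4357.result i C hC.2] at hs
  exact Set.notMem_empty z (hs ▸ (show z ∈ i ⁻¹' CohB1.support C from hy))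

end Groth.Agent.TFOneLib
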