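import Groth.Agent.TFOneLib.Tower
import Groth.Agent.TFOneLib.TowerFlat
import Groth.Agent.TFOneLib.Quot
import Groth.Agent.TFOneLib.ModifIneq

/-!
# Towers of decomposing elementary modifications
-/

set_option autoImplicit false
set_option linter.style.haveILetI false
universe u

open CategoryTheory CategoryTheory.Limits AlgebraicGeometry TopologicalSpace Opposite
open Groth.Agent.PullStalk.Sky Groth.Agent.PullStalk.Exact

namespace Groth.Agent.TFOneLib

variable {R : Type u} [CommRing R] [IsDomain R] [IsDiscreteValuationRing R] {X : Scheme.{u}}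
  [X.Over (Spec (CommRingCat.of R))] {Xs : Scheme.{u}} {i : Xs ⟶ X} [IsClosedImmersion i] [IsReduced Xs]
  [AlgebraicGeometry.IsNoetherian Xs]

set_option maxHeartbeats 1000000 in
theorem exists_tower {ϖ : R} (hϖ : Irreducible ϖ) (hcut : FormalFun.IsCut i (Ideal.span {ϖ}))
    (In : ℕ → X.Modules) (hIc : Coh.IsCoh (In 0))
    (hIf : FlatMod.IsFlatOver (X ↘ Spec (CommRingCat.of R)) (In 0))
    {Y Y' : Set Xs} (hdis : ∀ η ∈ genericPoints Xs, η ∈ Y → η ∉ Y') (G G' : ℕ → Xs.Modules)
    (π : ∀ n : ℕ, (Scheme.Modules.pullback i).obj (In n) ⟶ G n)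
    (π' : ∀ n : ℕ, (Scheme.Modules.pullback i).obj (In n) ⟶ G' n)
    (hG : ∀ n : ℕ, TFOne.IsQuotOn Xs ((Scheme.Modules.pullback i).obj (In n)) Y (G n) (π n))
    (hG' : ∀ n : ℕ, TFOne.IsQuotOn Xs ((Scheme.Modules.pullback i).obj (In n)) Y' (G' n) (π' n))
    (hstep : ∀ n : ℕ, In (n + 1) = kernel ((Scheme.Modules.pullbackPushforwardAdjunction i).unit.app (In n) ≫
      (Scheme.Modules.pushforward i).map (π n)))
    (hdec : ∀ n : ℕ, IsIso (biprod.lift (π n) (π' n))) :
    ∃ D : Tower (X := X) ϖ, Mono (Formal.smulMod R (D.M 0) ϖ) ∧ Coh.IsCoh (D.M 0) ∧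
      ∃ e0 : D.M 0 = In 0, ∃ e : D.Q 0 = (Scheme.Modules.pushforward i).obj (G 0),
        eqToHom e0.symm ≫ D.ρ 0 ≫ eqToHom e =
          (Scheme.Modules.pullbackPushforwardAdjunction i).unit.app (In 0) ≫
            (Scheme.Modules.pushforward i).map (π 0) := by
  let adj := Scheme.Modules.pullbackPushforwardAdjunction i
  let P := Scheme.Modules.pushforward i
  haveI hepi : ∀ n, Epi (π n) := fun n => (hG n).1
  haveI hepi' : ∀ n, Epi (π' n) := fun n => (hG' n).1
  let ρ : ∀ n, In n ⟶ P.obj (G n) := fun n => adj.unit.app (In n) ≫ P.map (π n)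
  let ρ' : ∀ n, In n ⟶ P.obj (G' n) := fun n => adj.unit.app (In n) ≫ P.map (π' n)
  let j : ∀ n, In (n + 1) ⟶ In n := fun n => eqToHom (hstep n) ≫ kernel.ι (ρ n)
  haveI hj : ∀ n, Mono (j n) := fun n => mono_comp _ _
  have hmono : ∀ n, Mono (Formal.smulMod R (In n) ϖ) := fun n => by
    induction n with
    | zero => exact mono_smulMod hIf hϖ.ne_zero
    | succ n ih =>
      haveI := ih
      haveI : Mono (Formal.smulMod R (In (n + 1)) ϖ ≫ j n) := by
        rw [FormalFun.smulMod_natural]; exact mono_comp _ _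
      exact mono_of_mono _ (j n)
  have hseq : ∀ n, ∃ w : Formal.smulMod R (In n) ϖ ≫ adj.unit.app (In n) = 0,
      (ShortComplex.mk _ _ w).ShortExact := fun n => by
    haveI := hmono n
    exact shortExact_smulMod_unit hcut (In n)
  haveI hu : ∀ n, Epi (adj.unit.app (In n)) := fun n => (hseq n).2.epi_g
  haveI hρ : ∀ n, Epi (ρ n) := fun n => by
    haveI := epi_push i (π n)
    exact epi_comp _ _
  have hz : ∀ n, j n ≫ ρ n = 0 := fun n => by simp [j]
  have hex : ∀ n, (ShortComplex.mk (j n) (ρ n) (hz n)).ShortExact := fun n =>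
    { exact := by
        refine ShortComplex.exact_of_f_is_kernel _ (IsLimit.ofIsoLimit (kernelIsKernel (ρ n))
          (Fork.ext (eqToIso (hstep n).symm) ?_))
        simp [j]
      mono_f := hj n
      epi_g := hρ n }
  have hϖρ : ∀ n, Formal.smulMod R (In n) ϖ ≫ ρ n = 0 := fun n => by
    rw [← Category.assoc, (hseq n).1, zero_comp]
  let w : ∀ n, In n ⟶ In (n + 1) := fun n =>
    (hex n).fIsKernel.lift (KernelFork.ofι (Formal.smulMod R (In n) ϖ) (hϖρ n))
  have hwj : ∀ n, w n ≫ j n = Formal.smulMod R (In n) ϖ := fun n =>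
    (hex n).fIsKernel.fac _ WalkingParallelPair.zero
  have hjw : ∀ n, j n ≫ w n = Formal.smulMod R (In (n + 1)) ϖ := fun n => by
    rw [← cancel_mono (j n), Category.assoc, hwj, FormalFun.smulMod_natural]
  have hqc : ∀ n, Coh.IsQCoh (In n) := fun n => by
    induction n with
    | zero => exact hIc.1
    | succ n ih =>
      haveI := (hG n).2.1.1
      haveI : IsLocallyNoetherian Xs := inferInstance
      exact hstep n ▸ @QCoh.isQuasicoherent_kernel X _ _ _ ih (QCoh.isQuasicoherent_pushforward i (G n))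
  -- maps between pieces on opposite sides vanish
  have hhom : ∀ (A B : ℕ), ∀ g : G A ⟶ G' B, g = 0 := fun A B g =>
    eq_zero_of_generic g (hG A).2.1 (hG' B).2.1.1
      (fun _ hy => mem_genericPoints_of_assoc (hG' B).2.2.1 hy) fun η hη t => by
        by_cases hY : η ∈ Y
        · haveI := quot_subsingleton (hG' B) (hdis η hη hY)
          exact @Subsingleton.elim ((G' B).presheaf.stalk η) _ _ _
        · haveI := quot_subsingleton (hG A) hY
          rw [@Subsingleton.elim ((G A).presheaf.stalk η) _ t 0, map_zero]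
  have hb : ∀ n, w n ≫ ρ' (n + 1) = 0 := fun n => by
    have h0 : j n ≫ w n ≫ ρ' (n + 1) = 0 := by
      rw [← Category.assoc, hjw, ← Category.assoc, (hseq (n + 1)).1, zero_comp]
    let h := (hex n).gIsCokernel.desc (CokernelCofork.ofπ _ h0)
    have hh : ρ n ≫ h = w n ≫ ρ' (n + 1) :=
      (hex n).gIsCokernel.fac (CokernelCofork.ofπ _ h0) WalkingParallelPair.one
    have hp : h = 0 := by
      exact ((Props.KilledSub.fullyFaithful i).map_preimage h).symm.trans ((congrArg P.map (hhom n (n + 1) ((Props.KilledSub.fullyFaithful i).preimage h))).trans (P.map_zero _ _))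
    rw [← hh, hp, comp_zero]
  have hc : ∀ n, ∃ d : G' (n + 1) ⟶ G' n, j n ≫ ρ' n = ρ' (n + 1) ≫ P.map d := fun n => by
    haveI := hdec (n + 1)
    let L := biprod.lift (π (n + 1)) (π' (n + 1))
    let g : (Scheme.Modules.pullback i).obj (In (n + 1)) ⟶ G' n := (Scheme.Modules.pullback i).map (j n) ≫ π' n
    refine ⟨biprod.inr ≫ inv L ≫ g, ?_⟩
    have hg : g = π' (n + 1) ≫ biprod.inr ≫ inv L ≫ g := by
      have he : inv L ≫ g = biprod.snd ≫ biprod.inr ≫ inv L ≫ g := by
        apply biprod.hom_ext'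
        · rw [biprod.inl_snd_assoc, zero_comp]
          exact hhom (n + 1) n _
        · rw [biprod.inr_snd_assoc]
      have e2 : g = L ≫ inv L ≫ g := (IsIso.hom_inv_id_assoc L g).symm
      rw [he, biprod.lift_snd_assoc] at e2
      exact e2
    have hn := adj.unit.naturality (j n)
    calc j n ≫ adj.unit.app (In n) ≫ P.map (π' n) = (j n ≫ adj.unit.app (In n)) ≫ P.map (π' n) :=
          (Category.assoc _ _ _).symm
      _ = (adj.unit.app (In (n + 1)) ≫ P.map ((Scheme.Modules.pullback i).map (j n))) ≫ P.map (π' n) :=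
          congrArg (· ≫ P.map (π' n)) hn
      _ = adj.unit.app (In (n + 1)) ≫ P.map g := by rw [Category.assoc, ← P.map_comp]
      _ = _ := by
        conv_lhs => rw [hg]
        rw [P.map_comp, ← Category.assoc]
  -- the stalk facts
  have key : ∀ n (x : X) (a : (In n).presheaf.stalk x), stalkLin (ρ n) x a = 0 → stalkLin (ρ' n) x a = 0 →
      ∃ b, stalkLin (Formal.smulMod R (In n) ϖ) x b = a := fun n x a h1 h2 => by
    refine ((stalk_exact (hseq n).2 x).2.1 a).1 ?_
    by_cases hx : x ∈ Set.range i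
    · obtain ⟨z, rfl⟩ := hx
      refine (pushGerm_bijective i _ z).1 ?_
      rw [map_zero]
      haveI := hdec n
      refine CohDev.stalk_injective (biprod.lift (π n) (π' n)) z (biprod_stalk_ext ?_ ?_)
      · rw [← CohDev.stalkLin_comp_apply, biprod.lift_fst, map_zero, map_zero, ← pushGerm_natural,
          ← CohDev.stalkLin_comp_apply]
        exact (congrArg _ h1).trans (map_zero _)
      · rw [← CohDev.stalkLin_comp_apply, biprod.lift_snd, map_zero, map_zero, ← pushGerm_natural,
          ← CohDev.stalkLin_comp_apply]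
        exact (congrArg _ h2).trans (map_zero _)
    · haveI := not_mem_support_push i ((Scheme.Modules.pullback i).obj (In n)) hx
      exact @Subsingleton.elim ((P.obj ((Scheme.Modules.pullback i).obj (In n))).presheaf.stalk x) _ _ _
  have hjρ : ∀ n, j n ≫ w n ≫ ρ (n + 1) = 0 := fun n => by rw [← Category.assoc, hjw, hϖρ]
  let θ : ∀ n, P.obj (G n) ⟶ P.obj (G (n + 1)) := fun n =>
    (hex n).gIsCokernel.desc (CokernelCofork.ofπ _ (hjρ n))
  have hθ : ∀ n, ρ n ≫ θ n = w n ≫ ρ (n + 1) := fun n =>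
    (hex n).gIsCokernel.fac (CokernelCofork.ofπ _ (hjρ n)) WalkingParallelPair.one
  have hθi : ∀ n, IsIso (θ n) := fun n => by
    haveI := hmono n
    haveI : Mono (θ n) := mono_of_stalks _ fun x => (injective_iff_map_eq_zero _).2 fun q hq => by
      obtain ⟨m, rfl⟩ := stalk_surjective (ρ n) x q
      rw [← CohDev.stalkLin_comp_apply, hθ, CohDev.stalkLin_comp_apply] at hq
      have h2 : stalkLin (ρ' (n + 1)) x (stalkLin (w n) x m) = 0 := by
        rw [← CohDev.stalkLin_comp_apply, hb, CohDev.stalkLin_zero_apply]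
      obtain ⟨b, hb'⟩ := key (n + 1) x _ hq h2
      have h3 := congrArg (stalkLin (j n) x) hb'
      rw [← CohDev.stalkLin_comp_apply, ← CohDev.stalkLin_comp_apply, hwj, FormalFun.smulMod_natural,
        CohDev.stalkLin_comp_apply] at h3
      rw [← CohDev.stalk_injective (Formal.smulMod R (In n) ϖ) x h3, ← CohDev.stalkLin_comp_apply, hz,
        CohDev.stalkLin_zero_apply]
    haveI : Epi (θ n) := epi_of_stalks _ fun x q => by
      haveI := hdec (n + 1)
      let s := biprod.inl ≫ inv (biprod.lift (π (n + 1)) (π' (n + 1)))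
      have hs1 : s ≫ π (n + 1) = 𝟙 _ := by
        have e : inv (biprod.lift (π (n + 1)) (π' (n + 1))) ≫ π (n + 1) = biprod.fst := by
          rw [IsIso.inv_comp_eq, biprod.lift_fst]
        simp only [s, Category.assoc, e, biprod.inl_fst]
      have hs2 : s ≫ π' (n + 1) = 0 := by
        have e : inv (biprod.lift (π (n + 1)) (π' (n + 1))) ≫ π' (n + 1) = biprod.snd := by
          rw [IsIso.inv_comp_eq, biprod.lift_snd]
        simp only [s, Category.assoc, e, biprod.inl_snd]
      obtain ⟨a, ha⟩ := stalk_surjective (adj.unit.app (In (n + 1))) x (stalkLin (P.map s) x q)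
      have h1 : stalkLin (ρ (n + 1)) x a = q := by
        rw [CohDev.stalkLin_comp_apply, ha, ← CohDev.stalkLin_comp_apply, ← P.map_comp, hs1, P.map_id,
          CohDev.stalkLin_id_apply]
      have h2 : stalkLin (ρ' (n + 1)) x a = 0 := by
        rw [CohDev.stalkLin_comp_apply, ha, ← CohDev.stalkLin_comp_apply, ← P.map_comp, hs2, P.map_zero,
          CohDev.stalkLin_zero_apply]
      obtain ⟨d, hd⟩ := hc n
      have h3 : stalkLin (ρ' n) x (stalkLin (j n) x a) = 0 := by
        rw [← CohDev.stalkLin_comp_apply, hd, CohDev.stalkLin_comp_apply, h2, map_zero]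
      obtain ⟨m, hm⟩ := key n x (stalkLin (j n) x a)
        (by rw [← CohDev.stalkLin_comp_apply, hz, CohDev.stalkLin_zero_apply]) h3
      refine ⟨stalkLin (ρ n) x m, ?_⟩
      have ha' : stalkLin (w n) x m = a := CohDev.stalk_injective (j n) x (by
        rw [← CohDev.stalkLin_comp_apply, hwj]; exact hm)
      rw [← CohDev.stalkLin_comp_apply, hθ, CohDev.stalkLin_comp_apply, ha', h1]
    exact isIso_of_mono_of_epi _
  exact ⟨⟨In, fun n => P.obj (G n), j, ρ, hz, hex, w, hwj, θ, hθi, hθ, hqc⟩, hmono 0, hIc, rfl, rfl, by simp [ρ, adj, P]⟩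

end Groth.Agent.TFOneLib
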