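import Groth.Agent.TFOneLib.PushSub
import Groth.Agent.FormalFun.ClosedCut
import Groth.Agent.ZClosLib.CohDescent
import Groth.Prelude.Def_FlatMod2
import Mathlib.RingTheory.DiscreteValuationRing.Basic

/-!
# Elementary modifications along the special fibre over a discrete valuation ring
-/

set_option autoImplicit false
set_option linter.style.haveILetI false
universe u

open CategoryTheory CategoryTheory.Limits AlgebraicGeometry TopologicalSpace
open Groth.Agent.PullStalk.Sky Groth.Agent.PullStalk.Exact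

namespace Groth.Agent.TFOneLib

variable {X : Scheme.{u}}

theorem mono_of_stalks {A B : X.Modules} (g : A ⟶ B) (h : ∀ x, Function.Injective (stalkLin g x)) : Mono g :=
  Preadditive.mono_of_isZero_kernel g (CohDev.isZero_of_support_eq_empty
    (Set.eq_empty_iff_forall_notMem.2 fun x hx => hx (subsingleton_of_forall_eq 0 fun t =>
      CohDev.stalk_injective (kernel.ι g) x ((h x) (by
        rw [← CohDev.stalkLin_comp_apply, kernel.condition, CohDev.stalkLin_zero_apply, map_zero, map_zero])))))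

theorem epi_of_stalks {A B : X.Modules} (g : A ⟶ B) (h : ∀ x, Function.Surjective (stalkLin g x)) : Epi g :=
  Preadditive.epi_of_isZero_cokernel g (CohDev.isZero_of_support_eq_empty
    (Set.eq_empty_iff_forall_notMem.2 fun x hx => hx (subsingleton_of_forall_eq 0 fun t => by
      obtain ⟨b, rfl⟩ := stalk_surjective (cokernel.π g) x t
      obtain ⟨a, rfl⟩ := h x b
      rw [← CohDev.stalkLin_comp_apply, cokernel.condition, CohDev.stalkLin_zero_apply])))

theorem pushGerm_natural {Z : Scheme.{u}} (i : Z ⟶ X) {P Q : Z.Modules} (g : P ⟶ Q) (z : Z)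
    (t : ((Scheme.Modules.pushforward i).obj P).presheaf.stalk (i z)) :
    pushGerm i Q z (stalkLin ((Scheme.Modules.pushforward i).map g) (i z) t) =
      stalkLin g z (pushGerm i P z t) := by
  obtain ⟨W, hW, s, rfl⟩ := exists_germM_eq _ _ t
  rw [stalkLin_germ]
  refine (pushGerm_germ i Q z W hW _).trans ?_
  refine Eq.trans ?_ (congrArg (stalkLin g z) (pushGerm_germ i P z W hW s)).symm
  exact (stalkLin_germ g (i ⁻¹ᵁ W) z hW s).symm

theorem epi_push {Z : Scheme.{u}} (i : Z ⟶ X) [IsClosedImmersion i] {P Q : Z.Modules} (g : P ⟶ Q) [Epi g] :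
    Epi ((Scheme.Modules.pushforward i).map g) := by
  refine epi_of_stalks _ fun x t => ?_
  by_cases hx : x ∈ Set.range i
  · obtain ⟨z, rfl⟩ := hx
    obtain ⟨s, hs⟩ := stalk_surjective g z (pushGerm i Q z t)
    obtain ⟨s', rfl⟩ := (pushGerm_bijective i P z).2 s
    exact ⟨s', (pushGerm_bijective i Q z).1 ((pushGerm_natural i g z s').trans hs)⟩
  · haveI := not_mem_support_push i Q hx
    exact ⟨0, @Subsingleton.elim (((Scheme.Modules.pushforward i).obj Q).presheaf.stalk x) _ _ _⟩

variable {A : Type u} [CommRing A] [X.Over (Spec (CommRingCat.of A))]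

theorem smulMod_mul' (M : X.Modules) (a b : A) :
    Formal.smulMod A M a ≫ Formal.smulMod A M b = Formal.smulMod A M (b * a) := by
  refine Scheme.Modules.hom_ext _ _ fun U => ?_
  ext x
  show (Formal.smulMod A M b).app U ((Formal.smulMod A M a).app U x) = (Formal.smulMod A M (b * a)).app U x
  rw [FormalFun.smulMod_app, FormalFun.smulMod_app, FormalFun.smulMod_app, smul_smul]
  simp only [map_mul]

theorem stalkLin_smulMod' (M : X.Modules) (c : A) (x : X) (t : M.presheaf.stalk x) :
    stalkLin (Formal.smulMod A M c) x t =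
      (X ↘ Spec (CommRingCat.of A)).stalkMap x ((Spec (CommRingCat.of A)).presheaf.germ ⊤ _ trivial
        ((Scheme.ΓSpecIso (CommRingCat.of A)).inv c)) • t := by
  refine Eq.trans ?_ (congrArg (· • t) (Scheme.Hom.germ_stalkMap_apply (X ↘ Spec (CommRingCat.of A)) ⊤ x trivial _).symm)
  obtain ⟨U, hx, m, rfl⟩ := exists_germM_eq M x t
  rw [stalkLin_germ]
  refine (congrArg (germM M U x hx) (show (Formal.smulMod A M c).app U m =
    (show Γ(X, U) from Coh.resTop X (Opposite.op U) (Coh.toGlobal (X ↘ Spec (CommRingCat.of A)) c)) • m from rfl)).trans ?_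
  rw [germM_smul]
  exact congrArg (fun r : X.presheaf.stalk x => r • germM M U x hx m)
    (X.presheaf.germ_res_apply (homOfLE (le_top (a := U))) x hx _)

/-- Multiplication by a non-zero element is injective on a module flat over a domain. -/
theorem mono_smulMod [IsDomain A] {I : X.Modules} (h : FlatMod.IsFlatOver (X ↘ Spec (CommRingCat.of A)) I)
    {a : A} (ha : a ≠ 0) : Mono (Formal.smulMod A I a) := by
  haveI : IsDomain ↑(CommRingCat.of A) := ‹IsDomain A›
  haveI : IsIntegral (Spec (CommRingCat.of A)) := inferInstance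
  refine mono_of_stalks _ fun x => (injective_iff_map_eq_zero _).2 fun t ht => ?_
  letI := FlatMod.moduleStalkOver (X ↘ Spec (CommRingCat.of A)) I x
  haveI : Module.Flat ((Spec (CommRingCat.of A)).presheaf.stalk ((X ↘ Spec (CommRingCat.of A)) x)) (I.presheaf.stalk x) := h x
  let g := (Spec (CommRingCat.of A)).presheaf.germ ⊤ ((X ↘ Spec (CommRingCat.of A)) x) trivial
        ((Scheme.ΓSpecIso (CommRingCat.of A)).inv a)
  have hg : g ≠ 0 := fun h0 => ha ((ConcreteCategory.bijective_of_isIso (Scheme.ΓSpecIso (CommRingCat.of A)).inv).1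
    ((germ_injective_of_isIntegral (X := Spec (CommRingCat.of A)) (U := ⊤) _ trivial (h0.trans (map_zero _).symm)).trans (map_zero _).symm))
  have hreg : IsSMulRegular (I.presheaf.stalk x) g :=
    Module.Flat.isSMulRegular_of_nonZeroDivisors (mem_nonZeroDivisors_of_ne_zero hg)
  rw [stalkLin_smulMod'] at ht
  exact hreg (ht.trans (smul_zero g).symm)

section DVR

variable {Xs : Scheme.{u}} {i : Xs ⟶ X} [IsClosedImmersion i]

/-- For a special fibre cut out by `ϖ`, `0 → G →ϖ G → i_* i^* G → 0`. -/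
theorem shortExact_smulMod_unit {ϖ : A} (hcut : FormalFun.IsCut i (Ideal.span {ϖ})) (G : X.Modules)
    [Mono (Formal.smulMod A G ϖ)] :
    ∃ w : Formal.smulMod A G ϖ ≫ (Scheme.Modules.pullbackPushforwardAdjunction i).unit.app G = 0,
      (ShortComplex.mk _ _ w).ShortExact := by
  have hcut' : FormalFun.IsCut i (Ideal.span {ϖ} ^ 1) := by rwa [pow_one]
  obtain ⟨θ, hθ⟩ := hcut'.exists_iso_unit G
  let π := Formal.modPowπ (Ideal.span {ϖ}) 1 G
  haveI : Epi π := inferInstanceAs (Epi (cokernel.π _))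
  have hw : Formal.smulMod A G ϖ ≫ π = 0 :=
    FormalFun.smulMod_comp_π G (by rw [pow_one]; exact Ideal.mem_span_singleton_self ϖ)
  let S := ShortComplex.mk (Formal.smulMod A G ϖ) π hw
  have hS : S.ShortExact :=
    { exact := S.exact_of_g_is_cokernel (CokernelCofork.IsColimit.ofπ π hw
        (fun g hg => cokernel.desc _ g (by
          apply Sigma.hom_ext
          intro a
          rw [comp_zero, ← Category.assoc, Formal.smulFamily, Sigma.ι_desc]
          obtain ⟨b, hb⟩ := Ideal.mem_span_singleton'.1 (by simpa using a.2 : (a : A) ∈ Ideal.span {ϖ})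
          rw [← hb, mul_comm b ϖ, ← smulMod_mul', Category.assoc, hg, comp_zero]))
        (fun g hg => cokernel.π_desc _ _ _)
        (fun g hg m hm => (cancel_epi π).1 (hm.trans (cokernel.π_desc _ _ _).symm)))
      mono_f := ‹Mono (Formal.smulMod A G ϖ)›
      epi_g := ‹Epi π› }
  refine ⟨by rw [← hθ, ← Category.assoc, hw, zero_comp], ShortComplex.shortExact_of_iso ?_ hS⟩
  exact ShortComplex.isoMk (Iso.refl _) (Iso.refl _) θ (by simp [S]) (by simpa [S, π] using hθ.symm)

end DVR

theorem isCut_residue {R : Type u} [CommRing R] [IsLocalRing R] {X Xs : Scheme.{u}}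
    [X.Over (Spec (CommRingCat.of R))] (i : Xs ⟶ X)
    {p : Xs ⟶ Spec (CommRingCat.of (IsLocalRing.ResidueField R))}
    (h : IsPullback i p (X ↘ Spec (CommRingCat.of R)) (Spec.map (CommRingCat.ofHom (IsLocalRing.residue R)))) :
    FormalFun.IsCut i (IsLocalRing.maximalIdeal R) := by
  let s := Spec.map (CommRingCat.ofHom (IsLocalRing.residue R))
  haveI : IsClosedImmersion s := IsClosedImmersion.spec_of_surjective _ IsLocalRing.residue_surjective
  have hkill : ∀ a, s.appTop ((Scheme.ΓSpecIso (CommRingCat.of R)).inv a) =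
      (Scheme.ΓSpecIso (CommRingCat.of (IsLocalRing.ResidueField R))).inv (IsLocalRing.residue R a) := fun a =>
    (congr($(Scheme.ΓSpecIso_inv_naturality (CommRingCat.ofHom (IsLocalRing.residue R))) a)).symm
  refine ⟨fun a ha => ?_, fun U => ?_⟩
  · show i.appTop ((X ↘ Spec (CommRingCat.of R)).appTop ((Scheme.ΓSpecIso (CommRingCat.of R)).inv a)) = 0
    refine (congr($(Scheme.Hom.comp_appTop i (X ↘ Spec (CommRingCat.of R))) ((Scheme.ΓSpecIso (CommRingCat.of R)).inv a))).symm.trans ?_
    rw [h.w]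
    refine (congr($(Scheme.Hom.comp_appTop p s) ((Scheme.ΓSpecIso (CommRingCat.of R)).inv a))).trans ?_
    exact (congrArg p.appTop ((hkill a).trans (by rw [(IsLocalRing.residue_eq_zero_iff a).2 ha, map_zero]))).trans
      (map_zero _)
  · rw [Adic.RestrictOpen.ker_eq_comap h,
      IdealSh.Comap.ideal_comap _ _ ⟨⊤, isAffineOpen_top _⟩ U le_top, Ideal.map_le_iff_le_comap]
    intro x hx
    rw [Scheme.Hom.ker_apply, RingHom.mem_ker] at hx
    obtain ⟨a, rfl⟩ := (ConcreteCategory.bijective_of_isIso (Scheme.ΓSpecIso (CommRingCat.of R)).inv).2 x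
    have ha : a ∈ IsLocalRing.maximalIdeal R := (IsLocalRing.residue_eq_zero_iff a).1
      ((ConcreteCategory.bijective_of_isIso (Scheme.ΓSpecIso (CommRingCat.of (IsLocalRing.ResidueField R))).inv).1
        (((hkill a).symm.trans hx).trans (map_zero _).symm))
    exact Ideal.mem_comap.2 (Ideal.mem_map_of_mem (FormalFun.gA (A := R) U.1) ha)

/-- The special fibre of an elementary modification. -/
theorem exists_modif_seq {R : Type u} [CommRing R] [IsDomain R] [IsDiscreteValuationRing R] {X : Scheme.{u}}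
    (f : X ⟶ Spec (CommRingCat.of R)) {Xs : Scheme.{u}} (i : Xs ⟶ X)
    {p : Xs ⟶ Spec (CommRingCat.of (IsLocalRing.ResidueField R))}
    (hsq : IsPullback i p f (Spec.map (CommRingCat.ofHom (IsLocalRing.residue R))))
    (I : X.Modules) (hI : FlatMod.IsFlatOver f I) {G : Xs.Modules}
    (π : (Scheme.Modules.pullback i).obj I ⟶ G) [Epi π] (IY : X.Modules)
    (hIY : IY = kernel ((Scheme.Modules.pullbackPushforwardAdjunction i).unit.app I ≫ (Scheme.Modules.pushforward i).map π)) :
    ∃ (φ : G ⟶ (Scheme.Modules.pullback i).obj IY)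
      (ψ : (Scheme.Modules.pullback i).obj IY ⟶ (Scheme.Modules.pullback i).obj I),
      ψ ≫ π = 0 ∧ ∀ z : Xs, Function.Injective (stalkLin φ z) ∧ Function.Exact (stalkLin φ z) (stalkLin ψ z) ∧
        Function.Exact (stalkLin ψ z) (stalkLin π z) := by
  subst hIY
  haveI : IsClosedImmersion (Spec.map (CommRingCat.ofHom (IsLocalRing.residue R))) :=
    IsClosedImmersion.spec_of_surjective _ IsLocalRing.residue_surjective
  haveI : IsClosedImmersion i := MorphismProperty.of_isPullback (P := @IsClosedImmersion) hsq.flip inferInstance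
  letI : X.Over (Spec (CommRingCat.of R)) := ⟨f⟩
  obtain ⟨ϖ, hϖ⟩ := IsDiscreteValuationRing.exists_irreducible R
  have hcut : FormalFun.IsCut i (Ideal.span {ϖ}) := hϖ.maximalIdeal_eq ▸ isCut_residue i hsq
  haveI := mono_smulMod (X := X) (I := I) hI hϖ.ne_zero
  let adj := Scheme.Modules.pullbackPushforwardAdjunction i
  let P := Scheme.Modules.pushforward i
  haveI := epi_push i π
  obtain ⟨wI, hSI⟩ := shortExact_smulMod_unit hcut I
  haveI : Epi (adj.unit.app I) := hSI.epi_g
  let ρ : I ⟶ P.obj G := adj.unit.app I ≫ P.map π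
  haveI : Epi ρ := epi_comp _ _
  let j := kernel.ι ρ
  haveI : Mono (Formal.smulMod R (kernel ρ) ϖ) := by
    haveI : Mono (Formal.smulMod R (kernel ρ) ϖ ≫ j) := by
      rw [FormalFun.smulMod_natural j ϖ]; infer_instance
    exact mono_of_mono _ j
  obtain ⟨wA, hSA⟩ := shortExact_smulMod_unit hcut (kernel ρ)
  have hzero : Formal.smulMod R I ϖ ≫ ρ = 0 := by rw [← Category.assoc, wI, zero_comp]
  let w := kernel.lift ρ (Formal.smulMod R I ϖ) hzero
  have hwj : w ≫ j = Formal.smulMod R I ϖ := kernel.lift_ι _ _ _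
  have hjw : j ≫ w = Formal.smulMod R (kernel ρ) ϖ := by
    rw [← cancel_mono j, Category.assoc, hwj, FormalFun.smulMod_natural j ϖ]
  have hj0 : j ≫ w ≫ adj.unit.app (kernel ρ) = 0 := by rw [← Category.assoc, hjw, wA]
  have hρ : (ShortComplex.mk j ρ (kernel.condition ρ)).ShortExact :=
    { exact := ShortComplex.exact_of_f_is_kernel _ (kernelIsKernel ρ) }
  let φX := hρ.gIsCokernel.desc (CokernelCofork.ofπ (w ≫ adj.unit.app (kernel ρ)) hj0)
  have hφX : ρ ≫ φX = w ≫ adj.unit.app (kernel ρ) :=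
    hρ.gIsCokernel.fac (CokernelCofork.ofπ _ hj0) WalkingParallelPair.one
  let φ : G ⟶ (Scheme.Modules.pullback i).obj (kernel ρ) := (Props.KilledSub.fullyFaithful i).preimage φX
  have hφ : P.map φ = φX := (Props.KilledSub.fullyFaithful i).map_preimage φX
  let ψ := (Scheme.Modules.pullback i).map j
  have hψ : adj.unit.app (kernel ρ) ≫ P.map ψ = j ≫ adj.unit.app I := (adj.unit.naturality j).symm
  have hψπ : ψ ≫ π = 0 := by
    refine (adj.homEquiv _ _).injective ?_
    rw [Adjunction.homEquiv_unit, Adjunction.homEquiv_unit, Functor.map_comp, ← Category.assoc]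
    show (adj.unit.app (kernel ρ) ≫ P.map ψ) ≫ P.map π = adj.unit.app (kernel ρ) ≫ P.map 0
    rw [hψ, Category.assoc, P.map_zero, comp_zero]
    exact kernel.condition ρ
  refine ⟨φ, ψ, hψπ, fun z => ?_⟩
  let uI := stalkLin (adj.unit.app I) (i z)
  let uA := stalkLin (adj.unit.app (kernel ρ)) (i z)
  let eG := pushGerm i G z
  let eI := pushGerm i ((Scheme.Modules.pullback i).obj I) z
  let eA := pushGerm i ((Scheme.Modules.pullback i).obj (kernel ρ)) z
  obtain ⟨-, exI, sI⟩ := stalk_exact hSI (i z)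
  obtain ⟨-, exA, sA⟩ := stalk_exact hSA (i z)
  obtain ⟨-, exρ, sρ⟩ := stalk_exact hρ (i z)
  have hjinj := CohDev.stalk_injective j (i z)
  have hφz : ∀ x, stalkLin φ z (eG (stalkLin ρ (i z) x)) = eA (uA (stalkLin w (i z) x)) := fun x => by
    rw [← pushGerm_natural, hφ, ← CohDev.stalkLin_comp_apply, hφX, CohDev.stalkLin_comp_apply]
  have hψz : ∀ a, stalkLin ψ z (eA (uA a)) = eI (uI (stalkLin j (i z) a)) := fun a => by
    rw [← pushGerm_natural, ← CohDev.stalkLin_comp_apply, hψ, CohDev.stalkLin_comp_apply]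
  have hπz : ∀ x, stalkLin π z (eI (uI x)) = eG (stalkLin ρ (i z) x) := fun x => by
    rw [← pushGerm_natural, ← CohDev.stalkLin_comp_apply]
  have lift : ∀ v, ∃ a, eA (uA a) = v := fun v => by
    obtain ⟨v', rfl⟩ := (pushGerm_bijective i _ z).2 v
    obtain ⟨a, rfl⟩ := sA v'
    exact ⟨a, rfl⟩
  have liftG : ∀ g, ∃ x, eG (stalkLin ρ (i z) x) = g := fun g => by
    obtain ⟨g', rfl⟩ := (pushGerm_bijective i _ z).2 g
    obtain ⟨a, rfl⟩ := sρ g'
    exact ⟨a, rfl⟩
  refine ⟨(injective_iff_map_eq_zero _).2 fun g hg => ?_, fun v => ⟨fun hv => ?_, ?_⟩, fun y => ⟨fun hy => ?_, ?_⟩⟩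
  · obtain ⟨x, rfl⟩ := liftG g
    rw [hφz] at hg
    obtain ⟨a, ha⟩ := (exA _).1 ((pushGerm_bijective i _ z).1 (hg.trans (map_zero _).symm))
    have hx : x = stalkLin j (i z) a := by
      refine (stalk_exact hSI (i z)).1 ?_
      have := congrArg (stalkLin j (i z)) ha
      rw [← CohDev.stalkLin_comp_apply, ← CohDev.stalkLin_comp_apply, hwj, FormalFun.smulMod_natural j ϖ,
        CohDev.stalkLin_comp_apply] at this
      exact this.symm
    rw [hx, ← CohDev.stalkLin_comp_apply, kernel.condition, CohDev.stalkLin_zero_apply, map_zero]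
  · obtain ⟨a, rfl⟩ := lift v
    rw [hψz] at hv
    obtain ⟨y, hy⟩ := (exI _).1 ((pushGerm_bijective i _ z).1 (hv.trans (map_zero _).symm))
    refine ⟨eG (stalkLin ρ (i z) y), ?_⟩
    rw [hφz]
    congr 2
    exact hjinj (by rw [← CohDev.stalkLin_comp_apply, hwj]; exact hy)
  · rintro ⟨g, rfl⟩
    obtain ⟨x, rfl⟩ := liftG g
    rw [hφz, hψz, ← CohDev.stalkLin_comp_apply w, hwj]
    show eI (uI _) = 0
    rw [show uI (stalkLin (Formal.smulMod R I ϖ) (i z) x) = 0 from (exI _).2 ⟨x, rfl⟩, map_zero]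
  · obtain ⟨y', rfl⟩ := (pushGerm_bijective i _ z).2 y
    obtain ⟨x, rfl⟩ := sI y'
    have hρx : stalkLin ρ (i z) x = 0 :=
      (pushGerm_bijective i _ z).1 (((hπz x).symm.trans hy).trans (map_zero _).symm)
    obtain ⟨a, ha⟩ := (exρ _).1 hρx
    exact ⟨eA (uA a), (hψz a).trans (by rw [ha])⟩
  · rintro ⟨v, rfl⟩
    rw [← CohDev.stalkLin_comp_apply, hψπ, CohDev.stalkLin_zero_apply]

end Groth.Agent.TFOneLib
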