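import Groth.Agent.TFOneLib.DegT

/-!
# Degrees on the empty set and on the whole space
-/

set_option autoImplicit false
set_option linter.style.haveILetI false
universe u

open CategoryTheory CategoryTheory.Limits AlgebraicGeometry TopologicalSpace
open Groth.Agent.PullStalk.Sky Groth.Agent.PullStalk.Exact

namespace Groth.Agent.TFOneLib

variable {k : Type u} [Field k] {X : Scheme.{u}} [X.Over (Spec (CommRingCat.of k))]
  [IsProper (X ↘ Spec (CommRingCat.of k))] [IsReduced X]

omit [IsReduced X] in
theorem degOn_empty {n : ℕ} {E : X.Modules} (hE : FlatMod.IsFinLocFreeOfRank n E) (h : IsClosed (∅ : Set X)) :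
    degOn k ∅ h E n = 0 := by
  haveI := EulerChar.isNoetherian k (X := X)
  have hz : IsZero (ClSub.quotMod (Scheme.IdealSheafData.vanishingIdeal (X := X) ⟨∅, h⟩)) :=
    CohDev.isZero_of_support_eq_empty (Set.eq_empty_iff_forall_notMem.2 fun x hx => hx
      (not_mem_support_push (VecSt.subschι X ∅ h) (Coh.structureModule _) (by
        rw [Scheme.IdealSheafData.range_subschemeι, Scheme.IdealSheafData.coe_support_vanishingIdeal]
        exact id)))
  refine (EulerChar.dev_quotMod k _ hE).symm.trans ?_
  rw [CohDev.kcl_of_isZero hz, map_zero]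

set_option maxHeartbeats 1000000 in
theorem degOn_univ (hdim1 : ∀ Z ∈ irreducibleComponents (X : Type u), topologicalKrullDim Z = 1)
    {n : ℕ} {E : X.Modules} (hE : FlatMod.IsFinLocFreeOfRank n E) (h : IsClosed (Set.univ : Set X)) :
    degOn k Set.univ h E n = Curv2.deg k X E n := by
  classical
  haveI := EulerChar.isNoetherian k (X := X)
  haveI := (NoetherianSpace.finite_irreducibleComponents (α := X)).to_subtype
  cases nonempty_fintype (irreducibleComponents (X : Type u))
  let Q := ClSub.quotMod (Scheme.IdealSheafData.vanishingIdeal (X := X) ⟨Set.univ, h⟩)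
  have hQ : Coh.IsCoh Q := EulerChar.isCoh_quotMod k _
  let O := Coh.structureModule X
  have hOr := ProjTwist.isFinLocFreeOfRank_one (PicLoc.isInvertible_structureModule X)
  have hO : Coh.IsCoh O := VBLib.isCoh_of_ofRank hOr
  have h1 := EulerChar.ComponentsTens.euler_tens_eq_sum k hdim1 hE hQ
  have h2 := EulerChar.ComponentsTens.euler_tens_eq_sum k hdim1 hE hO
  have e1 : CohB1.tensorMod E Q = CohDev.tens E Q := rfl
  have e2 : CohB1.tensorMod E O = CohDev.tens E O := rfl
  rw [finsum_eq_sum_of_fintype, e1] at h1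
  rw [finsum_eq_sum_of_fintype, e2] at h2
  refine ((EulerChar.dev_quotMod k _ hE).symm.trans (EulerChar.dev_kcl k hE hQ)).trans ?_
  refine Eq.trans ?_ (((EulerChar.dev_kcl k hE hO).symm.trans (EulerChar.dev_structure k hE)))
  refine (sub_eq_of_eq_add h1).trans ((Finset.sum_congr rfl fun Z _ => ?_).trans (sub_eq_of_eq_add h2).symm)
  have hgen : Z.2.1.genericPoint ∈ genericPoints X := by
    show closure ({Z.2.1.genericPoint} : Set X) ∈ irreducibleComponents (X : Type u)
    rw [(Z.2.1.isGenericPoint_genericPoint_closure).def, (isClosed_of_mem_irreducibleComponents Z.1 Z.2).closure_eq]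
    exact Z.2
  obtain ⟨e⟩ := EulerChar.stalk_ofRank hOr Z.2.1.genericPoint
  rw [length_quot_generic Set.univ h hgen, if_pos (Set.mem_univ _)]
  congr 3
  rw [← e.length_eq, (LinearEquiv.funUnique (Fin 1) (X.presheaf.stalk Z.2.1.genericPoint)
    (X.presheaf.stalk Z.2.1.genericPoint)).length_eq]
  letI := (isField_stalk hgen).toField
  exact (Module.length_eq_one _ _).symm

end Groth.Agent.TFOneLib
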