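import Groth.Agent.TFOneLib.Modif
import Groth.Agent.Formal61.Sys
import Groth.Agent.S0004
import Groth.Agent.S0060

/-!
# The formal quotient of a tower of elementary modifications
-/

set_option autoImplicit false
set_option linter.style.haveILetI false
universe u

open CategoryTheory CategoryTheory.Limits AlgebraicGeometry TopologicalSpace Opposite
open Groth.Agent.PullStalk.Sky Groth.Agent.PullStalk.Exact

namespace Groth.Agent.TFOneLib

variable {A : Type u} [CommRing A] {X : Scheme.{u}} [X.Over (Spec (CommRingCat.of A))] {ϖ : A}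

/-- A tower of submodules with successive quotients identified by multiplication by `ϖ`. -/
structure Tower (ϖ : A) where
  /-- the terms -/
  M : ℕ → X.Modules
  /-- the graded pieces -/
  Q : ℕ → X.Modules
  /-- the inclusions -/
  j : ∀ n, M (n + 1) ⟶ M n
  /-- the quotient maps -/
  ρ : ∀ n, M n ⟶ Q n
  zero : ∀ n, j n ≫ ρ n = 0
  exact : ∀ n, (ShortComplex.mk (j n) (ρ n) (zero n)).ShortExact
  /-- multiplication by `ϖ` -/
  w : ∀ n, M n ⟶ M (n + 1)
  w_j : ∀ n, w n ≫ j n = Formal.smulMod A (M n) ϖ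
  /-- the induced maps on graded pieces -/
  θ : ∀ n, Q n ⟶ Q (n + 1)
  θ_iso : ∀ n, IsIso (θ n)
  ρ_θ : ∀ n, ρ n ≫ θ n = w n ≫ ρ (n + 1)
  qcoh : ∀ n, Coh.IsQCoh (M n)

namespace Tower

variable (D : Tower (X := X) ϖ)

theorem mono_j (n : ℕ) : Mono (D.j n) := (D.exact n).mono_f

/-- The composite inclusion. -/
noncomputable def J : ∀ n, D.M n ⟶ D.M 0
  | 0 => 𝟙 _
  | n + 1 => D.j n ≫ J n

/-- Multiplication by `ϖ ^ n`. -/
noncomputable def W : ∀ n, D.M 0 ⟶ D.M n
  | 0 => 𝟙 _
  | n + 1 => W n ≫ D.w n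

theorem mono_J : ∀ n, Mono (D.J n)
  | 0 => inferInstanceAs (Mono (𝟙 _))
  | n + 1 => by
    haveI := mono_J n
    haveI := D.mono_j n
    exact mono_comp _ _

theorem j_w (n : ℕ) : D.j n ≫ D.w n = Formal.smulMod A (D.M (n + 1)) ϖ := by
  haveI := D.mono_j n
  rw [← cancel_mono (D.j n), Category.assoc, D.w_j, FormalFun.smulMod_natural]

theorem w_J (n : ℕ) : D.w n ≫ D.J (n + 1) = Formal.smulMod A (D.M n) ϖ ≫ D.J n := by
  rw [J, ← Category.assoc, D.w_j]

theorem W_J : ∀ n, D.W n ≫ D.J n = Formal.smulMod A (D.M 0) (ϖ ^ n)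
  | 0 => by
    rw [pow_zero]
    refine (Category.comp_id _).trans ?_
    refine Scheme.Modules.hom_ext _ _ fun U => ?_
    ext x
    show x = (Formal.smulMod A (D.M 0) 1).app U x
    rw [FormalFun.smulMod_app, map_one, one_smul]
  | n + 1 => by
    rw [W, Category.assoc, D.w_J, FormalFun.smulMod_natural, ← Category.assoc, W_J n, smulMod_mul', pow_succ']

/-- `M n` is generated by `M (n+1)` and the multiples of `ϖ ^ n`. -/
theorem hom_ext_zero : ∀ (n : ℕ) {Z : X.Modules} (h : D.M n ⟶ Z), D.j n ≫ h = 0 → D.W n ≫ h = 0 → h = 0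
  | 0, _, h, _, h2 => by simpa [W] using h2
  | n + 1, Z, h, h1, h2 => by
    have hwh : D.w n ≫ h = 0 := by
      refine hom_ext_zero n _ ?_ (by rw [← Category.assoc]; exact h2)
      rw [← Category.assoc, D.j_w, ← D.w_j (n + 1), Category.assoc, h1, comp_zero]
    haveI : Epi (D.ρ (n + 1)) := (D.exact (n + 1)).epi_g
    haveI := D.θ_iso n
    haveI : Epi (D.ρ n) := (D.exact n).epi_g
    let h' := (D.exact (n + 1)).gIsCokernel.desc (CokernelCofork.ofπ h h1)
    have hh : D.ρ (n + 1) ≫ h' = h :=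
      (D.exact (n + 1)).gIsCokernel.fac (CokernelCofork.ofπ h h1) WalkingParallelPair.one
    have : D.θ n ≫ h' = 0 := by
      rw [← cancel_epi (D.ρ n), ← Category.assoc, D.ρ_θ, Category.assoc, hh, hwh, comp_zero]
    rw [← hh, (cancel_epi (D.θ n)).1 (this.trans comp_zero.symm), comp_zero]

/-- The quotient `M 0 / M n`. -/
noncomputable abbrev C (n : ℕ) : X.Modules := cokernel (D.J n)

/-- The transition maps. -/
noncomputable def tr (n : ℕ) : D.C (n + 1) ⟶ D.C n :=
  cokernel.desc _ (cokernel.π (D.J n)) (by rw [J, Category.assoc, cokernel.condition, comp_zero])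

theorem π_tr (n : ℕ) : cokernel.π (D.J (n + 1)) ≫ D.tr n = cokernel.π (D.J n) := cokernel.π_desc _ _ _

/-- The formal system `n ↦ M 0 / M (n + 1)`. -/
noncomputable def sys : ℕᵒᵖ ⥤ X.Modules := Functor.ofOpSequence (X := fun n => D.C (n + 1)) fun n => D.tr (n + 1)

theorem sys_map (n : ℕ) : D.sys.map (homOfLE (Nat.le_succ n)).op = D.tr (n + 1) :=
  Functor.ofOpSequence_map_homOfLE_succ (X := fun n => D.C (n + 1)) _ n

theorem smul_comp_π {n : ℕ} {a : A} (ha : a ∈ Ideal.span {ϖ} ^ n) :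
    Formal.smulMod A (D.M 0) a ≫ cokernel.π (D.J n) = 0 := by
  rw [Ideal.span_singleton_pow, Ideal.mem_span_singleton'] at ha
  obtain ⟨b, rfl⟩ := ha
  rw [mul_comm, ← smulMod_mul', Category.assoc, ← D.W_J, Category.assoc, cokernel.condition, comp_zero, comp_zero]

theorem killed (n : ℕ) : Formal.KilledBy (Ideal.span {ϖ} ^ n) (D.C n) := fun a ha => by
  rw [← cancel_epi (cokernel.π (D.J n)), ← FormalFun.smulMod_natural, D.smul_comp_π ha, comp_zero]

theorem isCohFormal (h0 : Coh.IsCoh (D.M 0)) : Formal.IsCohFormal (Ideal.span {ϖ}) D.sys := by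
  refine ⟨fun n => CohDev.isCoh_cokernel _ (D.qcoh _) h0, fun n => D.killed (n + 1), fun n => ?_⟩
  have he : D.sys.map (homOfLE (Nat.le_succ n)).op = D.tr (n + 1) := Functor.ofOpSequence_map_homOfLE_succ _ n
  rw [he]
  show Formal61.Sys.IsModQuot (Ideal.span {ϖ} ^ (n + 1)) (D.tr (n + 1))
  haveI : Epi (D.tr (n + 1)) := epi_of_epi_fac (D.π_tr (n + 1))
  refine Formal61.Sys.IsModQuot.mk' (fun a ha => ?_) fun Z φ hφ => ?_
  · rw [FormalFun.smulMod_natural, D.killed (n + 1) a ha, comp_zero]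
  · have h1 : D.J (n + 1) ≫ cokernel.π (D.J (n + 2)) ≫ φ = 0 := by
      refine D.hom_ext_zero (n + 1) _ ?_ ?_
      · rw [← Category.assoc]
        exact cokernel.condition_assoc (D.J (n + 2)) φ |>.trans zero_comp
      · rw [← Category.assoc, D.W_J, ← Category.assoc, FormalFun.smulMod_natural, Category.assoc,
          hφ _ (Ideal.pow_mem_pow (Ideal.mem_span_singleton_self ϖ) _), comp_zero]
    refine ⟨cokernel.desc _ _ h1, ?_⟩
    rw [← cancel_epi (cokernel.π (D.J (n + 2))), ← Category.assoc]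
    exact (congrArg (· ≫ cokernel.desc _ _ h1) (D.π_tr (n + 1))).trans (cokernel.π_desc _ _ _)

/-- A section of a quotient killed by `ϖ` dies one step below. -/
theorem torsion_tr (hinj : Mono (Formal.smulMod A (D.M 0) ϖ)) (n : ℕ) {T : X.Modules} (g : T ⟶ D.C (n + 1))
    (hg : g ≫ Formal.smulMod A (D.C (n + 1)) ϖ = 0) : g ≫ D.tr n = 0 := by
  refine Omega.Stalks.hom_ext_stalk fun x => LinearMap.ext fun s => ?_
  rw [CohDev.stalkLin_zero_apply]
  haveI := hinj
  have hϖ := CohDev.stalk_injective (Formal.smulMod A (D.M 0) ϖ) x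
  have key : ∀ (n : ℕ) t b, stalkLin (D.J (n + 1)) x b = stalkLin (Formal.smulMod A (D.M 0) ϖ) x t →
      ∃ c, stalkLin (D.J n) x c = t := by
    intro n
    induction n with
    | zero => exact fun t _ _ => ⟨t, CohDev.stalkLin_id_apply x t⟩
    | succ n ih =>
      intro t b hb
      obtain ⟨m, hm⟩ := ih t (stalkLin (D.j (n + 1)) x b) (by
        rw [← hb]; exact (CohDev.stalkLin_comp_apply _ _ _ _).symm)
      haveI := D.mono_J (n + 1)
      have e : stalkLin (D.w n) x m = stalkLin (D.j (n + 1)) x b := by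
        refine CohDev.stalk_injective (D.J (n + 1)) x ?_
        rw [← CohDev.stalkLin_comp_apply, D.w_J, FormalFun.smulMod_natural, CohDev.stalkLin_comp_apply, hm, ← hb]
        exact CohDev.stalkLin_comp_apply _ _ _ _
      have hρ : stalkLin (D.θ n) x (stalkLin (D.ρ n) x m) = 0 := by
        rw [← CohDev.stalkLin_comp_apply, D.ρ_θ, CohDev.stalkLin_comp_apply, e, ← CohDev.stalkLin_comp_apply,
          D.zero, CohDev.stalkLin_zero_apply]
      haveI := D.θ_iso n
      have hρ0 : stalkLin (D.ρ n) x m = 0 := CohDev.stalk_injective (D.θ n) x (hρ.trans (map_zero _).symm)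
      obtain ⟨c, hc⟩ := ((stalk_exact (D.exact n) x).2.1 m).1 hρ0
      exact ⟨c, (CohDev.stalkLin_comp_apply _ _ _ _).trans ((congrArg _ hc).trans hm)⟩
  obtain ⟨t, ht⟩ := stalk_surjective (cokernel.π (D.J (n + 1))) x (stalkLin g x s)
  rw [CohDev.stalkLin_comp_apply, ← ht, ← CohDev.stalkLin_comp_apply, D.π_tr]
  haveI := D.mono_J (n + 1)
  have hS : (ShortComplex.mk (D.J (n + 1)) (cokernel.π (D.J (n + 1))) (cokernel.condition _)).ShortExact :=
    { exact := ShortComplex.exact_of_g_is_cokernel _ (cokernelIsCokernel _) }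
  have h0 : stalkLin (cokernel.π (D.J (n + 1))) x (stalkLin (Formal.smulMod A (D.M 0) ϖ) x t) = 0 := by
    rw [← CohDev.stalkLin_comp_apply, FormalFun.smulMod_natural, CohDev.stalkLin_comp_apply, ht,
      ← CohDev.stalkLin_comp_apply, hg, CohDev.stalkLin_zero_apply]
  obtain ⟨b, hb⟩ := ((stalk_exact hS x).2.1 _).1 h0
  obtain ⟨c, rfl⟩ := key n t b hb
  rw [← CohDev.stalkLin_comp_apply, cokernel.condition, CohDev.stalkLin_zero_apply]

/-- Algebraisation of the tower. -/
theorem exists_algebraic [IsNoetherianRing A] [IsAdicComplete (Ideal.span {ϖ}) A]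
    [IsProper (X ↘ Spec (CommRingCat.of A))] (h0 : Coh.IsCoh (D.M 0))
    (hinj : Mono (Formal.smulMod A (D.M 0) ϖ)) :
    ∃ (F : X.Modules) (φ : D.M 0 ⟶ F) (e : Formal.modPow (Ideal.span {ϖ}) 1 F ≅ D.C 1), Coh.IsCoh F ∧
      Mono (Formal.smulMod A F ϖ) ∧
      φ ≫ Formal.modPowπ (Ideal.span {ϖ}) 1 F ≫ e.hom = cokernel.π (D.J 1) := by
  let I := Ideal.span {ϖ}
  obtain ⟨F, hF, ⟨E⟩⟩ := (S0004.result A I X).2 D.sys (D.isCohFormal h0)
  let α : Formal.completion I (D.M 0) ⟶ D.sys :=
    NatTrans.ofOpSequence (fun n => cokernel.desc _ (cokernel.π (D.J (n + 1)))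
      ((Formal61.Sys.smulFamily_comp_eq_zero_iff _).2 fun a ha => D.smul_comp_π ha)) fun n => by
      rw [Formal61.Sys.completion_map_succ, D.sys_map]
      refine (cancel_epi (Formal.modPowπ I (n + 1 + 1) (D.M 0))).1 ?_
      refine (Category.assoc _ _ _).symm.trans ((congrArg (· ≫ _) (Formal.modPowπ_trans I (n + 1) (D.M 0))).trans ?_)
      refine Eq.trans ?_ (Category.assoc _ _ _)
      refine Eq.trans ?_ (congrArg (· ≫ _) (cokernel.π_desc _ _ _)).symm
      exact (cokernel.π_desc _ _ _).trans (D.π_tr (n + 1)).symm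
  obtain ⟨φ, hφ, -⟩ := S0060.result A I X (D.M 0) F h0 hF (α ≫ E.inv)
  haveI : IsLocallyNoetherian X := FormalFun.isLocallyNoetherian_of_proper A X
  haveI : CompactSpace X := QuasiCompact.compactSpace_of_compactSpace (X ↘ Spec (CommRingCat.of A))
  haveI : AlgebraicGeometry.IsNoetherian X := ⟨⟩
  let ε : ∀ n, Formal.modPow I (n + 1) F ≅ D.C (n + 1) := fun n => E.app (op n)
  refine ⟨F, φ, ε 0, hF, ?_, ?_⟩
  · let ι := kernel.ι (Formal.smulMod A F ϖ)
    have hT : Coh.IsCoh (kernel (Formal.smulMod A F ϖ)) := CohDev.isCoh_kernel' _ hF hF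
    have hε : ∀ n, Formal.modPowTrans I (n + 1) F ≫ (ε n).hom = (ε (n + 1)).hom ≫ D.tr (n + 1) := fun n => by
      have hnat := E.hom.naturality (homOfLE (Nat.le_succ n)).op
      rw [Formal61.Sys.completion_map_succ, D.sys_map] at hnat
      exact hnat
    have hk : ∀ n, ι ≫ Formal.modPowπ I (n + 1) F = 0 := fun n => by
      let g : kernel (Formal.smulMod A F ϖ) ⟶ D.C (n + 2) :=
        ι ≫ Formal.modPowπ I (n + 2) F ≫ (ε (n + 1)).hom
      have hg : g ≫ Formal.smulMod A (D.C (n + 2)) ϖ = 0 := by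
        simp only [g, Category.assoc]
        rw [← FormalFun.smulMod_natural (ε (n + 1)).hom, ← Category.assoc (Formal.modPowπ I (n + 2) F),
          ← FormalFun.smulMod_natural, Category.assoc, ← Category.assoc ι]
        rw [kernel.condition, zero_comp]
      have h := D.torsion_tr hinj (n + 1) g hg
      rw [← cancel_mono (ε n).hom, zero_comp, Category.assoc]
      refine Eq.trans ?_ h
      simp only [g, Category.assoc, ← hε]
      rw [← Category.assoc (Formal.modPowπ I (n + 2) F), Formal.modPowπ_trans]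
    obtain ⟨_, -, huniq⟩ := S0060.result A I X _ F hT hF 0
    have h1 := huniq ι fun n => comp_zero.trans (hk n).symm
    have h2 := huniq 0 fun n => comp_zero.trans zero_comp.symm
    exact Preadditive.mono_of_isZero_kernel _ ((IsZero.iff_id_eq_zero _).2
      ((cancel_mono ι).1 (by rw [Category.id_comp, zero_comp]; exact h1.trans h2.symm)))
  · refine (Category.assoc _ _ _).symm.trans ((congrArg (· ≫ _) (hφ 0).symm).trans ?_)
    refine (Category.assoc _ _ _).trans ?_
    refine Eq.trans (congrArg (_ ≫ ·) ?_) (cokernel.π_desc _ _ ((Formal61.Sys.smulFamily_comp_eq_zero_iff _).2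
      fun a ha => D.smul_comp_π (n := 1) ha))
    show (α.app (op 0) ≫ E.inv.app (op 0)) ≫ E.hom.app (op 0) = _
    rw [Category.assoc, Iso.inv_hom_id_app, Category.comp_id]
    rfl

end Tower

end Groth.Agent.TFOneLib
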